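import Cfsg.Agent.Chev.CyclicTorus.Weyl
import Cfsg.Agent.Chev.FixedPoints
import Cfsg.Agent.Chev.Orders

/-! Conjugacy of torus elements in a Chevalley group and the torus in exponents. -/

set_option autoImplicit false
set_option linter.unusedSectionVars false
set_option linter.style.haveILetI false

open Cfsg.Lie

namespace Cfsg.Lib.CyclicTorus

open Cfsg.Lib.Chev Matrix

variable {D : ChevalleyDatum} {C : Cert} {K : Type*} [Field K]

/-- A torus parameter given by exponents. -/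
def zc (ζ : Kˣ) (y : Fin D.rank → ℤ) : Fin D.rank → Kˣ := fun i => ζ ^ y i

/-- The torus element with given exponents. -/
noncomputable def te (D : ChevalleyDatum) (ζ : Kˣ) (y : Fin D.rank → ℤ) : GL D.Idx K := Ok.tG D K (zc ζ y)

theorem zc_add (ζ : Kˣ) (y z : Fin D.rank → ℤ) : zc ζ (y + z) = zc ζ y * zc ζ z := by
  funext i; simp [zc, _root_.zpow_add]

theorem te_add (ζ : Kˣ) (y z : Fin D.rank → ℤ) : te D ζ (y + z) = te D ζ y * te D ζ z := by
  rw [te, zc_add, map_mul]; rfl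

theorem te_mem (S : Struct D C) (ζ : Kˣ) (y : Fin D.rank → ℤ) : te D ζ y ∈ D.diagonalSubgroup K := by
  rw [S.ok.diagonalSubgroup_eq]; exact ⟨_, rfl⟩

theorem diag_comm (S : Struct D C) {a b : GL D.Idx K} (ha : a ∈ D.diagonalSubgroup K)
    (hb : b ∈ D.diagonalSubgroup K) : a * b = b * a := by
  rw [S.ok.diagonalSubgroup_eq] at ha hb
  obtain ⟨c, rfl⟩ := ha
  obtain ⟨c', rfl⟩ := hb
  rw [← map_mul, ← map_mul, mul_comm]

theorem prod_zc (ζ : Kˣ) (y : Fin D.rank → ℤ) (s : ℕ) :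
    (∏ j : Fin D.rank, zc ζ y j ^ D.cartan j s : Kˣ) = ζ ^ chiZ D s y := by
  have hsum : ∀ (t : Finset (Fin D.rank)) (f : Fin D.rank → ℤ), ∏ j ∈ t, ζ ^ f j = ζ ^ ∑ j ∈ t, f j := fun t f => by
    induction t using Finset.induction_on with
    | empty => simp
    | insert x t hx ih => rw [Finset.prod_insert hx, Finset.sum_insert hx, _root_.zpow_add, ih]
  simp only [zc, ← _root_.zpow_mul, chiZ]
  rw [hsum]
  congr 1
  exact Finset.sum_congr rfl fun j _ => mul_comm _ _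

theorem te_conj_xG (S : Struct D C) (ζ : Kˣ) (y : Fin D.rank → ℤ) {s : ℕ} (hs : s < D.nroots) (t : K) :
    te D ζ y * S.ok.xG s t * (te D ζ y)⁻¹ = S.ok.xG s (((ζ ^ chiZ D s y : Kˣ) : K) * t) := by
  rw [te, S.tG_conj_xG hs, prod_zc]

theorem nG_conj_te (S : Struct D C) (ζ : Kˣ) (i : Fin D.rank) (y : Fin D.rank → ℤ) :
    S.ok.nG (D.simple i) (1 : K) * te D ζ y * (S.ok.nG (D.simple i) 1)⁻¹ = te D ζ (Rm D i *ᵥ y) := by
  rw [te, S.ok.conj_nG_tG, te]
  congr 1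
  rw [Rm_mulVec, sub_eq_add_neg, zc_add, ← Pi.single_neg]
  congr 1
  funext b
  by_cases hb : b = i
  · subst hb
    rw [Pi.mulSingle_eq_same, zc, Pi.single_eq_same, _root_.zpow_neg, ← prod_zc, ← Finset.prod_inv_distrib]
    exact Finset.prod_congr rfl fun j _ => _root_.zpow_neg _ _
  · simp [zc, Pi.mulSingle_eq_of_ne hb, Pi.single_eq_of_ne hb]

theorem nL_conj_te (S : Struct D C) (ζ : Kˣ) : ∀ (L : List (Fin D.rank)) (y : Fin D.rank → ℤ),
    S.nL K L * te D ζ y * (S.nL K L)⁻¹ = te D ζ (matL D L *ᵥ y)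
  | [], y => by simp [Struct.nL, matL]
  | i :: L, y => by
    have e : S.nL K (i :: L) = S.ok.nG (D.simple i) (1 : K) * S.nL K L := by simp [Struct.nL]
    have e2 : matL D (i :: L) = Rm D i * matL D L := by simp [matL]
    rw [e, e2, show S.ok.nG (D.simple i) (1 : K) * S.nL K L * te D ζ y * (S.ok.nG (D.simple i) (1 : K) * S.nL K L)⁻¹ =
      S.ok.nG (D.simple i) (1 : K) * (S.nL K L * te D ζ y * (S.nL K L)⁻¹) * (S.ok.nG (D.simple i) (1 : K))⁻¹ by group,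
      nL_conj_te S ζ L y, nG_conj_te S ζ i, Matrix.mulVec_mulVec]

theorem eq_one_of_commute_te (S : Struct D C) (ζ : Kˣ) (y : Fin D.rank → ℤ)
    (hreg : ∀ s : Fin D.nroots, ζ ^ chiZ D s y ≠ 1) {u : GL D.Idx K} (hu : u ∈ D.posUnipotent K)
    (hc : te D ζ y * u = u * te D ζ y) : u = 1 := by
  have hhs := S.hsum
  rw [S.posUnipotent_eq] at hu
  obtain ⟨t, rfl⟩ := S.exists_pw (D.nroots - D.nroots / 2) (D.nroots / 2) (by omega) le_rfl u hu
  have e : te D ζ y * S.pw (D.nroots / 2) t * (te D ζ y)⁻¹ =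
      S.pw (D.nroots / 2) (fun i => ((ζ ^ chiZ D i y : Kˣ) : K) * t i) := by
    rw [← MulAut.conj_apply, Struct.pw, Struct.pw, map_list_prod, List.map_map]
    refine congrArg List.prod (List.map_congr_left fun i hi => ?_)
    rw [List.mem_range'_1] at hi
    simp only [Function.comp_apply, MulAut.conj_apply]
    exact te_conj_xG S ζ y (by omega) (t i)
  rw [hc, mul_inv_cancel_right] at e
  have ht := S.pw_inj (D.nroots - D.nroots / 2) (D.nroots / 2) (by omega) le_rfl _ _ e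
  refine List.prod_eq_one fun g hg => ?_
  obtain ⟨i, hi, rfl⟩ := List.mem_map.1 hg
  rw [List.mem_range'_1] at hi
  have h1 := ht i hi.1 (by omega)
  by_cases h0 : t i = 0
  · rw [h0]; exact S.xG_zero i
  · exact absurd (Units.ext ((mul_eq_right₀ h0).1 h1.symm)) (hreg ⟨i, by omega⟩)

theorem conj_te (S : Struct D C) (hN : okNeg D = true) (ζ : Kˣ) {g : GL D.Idx K} (hg : g ∈ D.group K)
    {y₁ y₂ : Fin D.rank → ℤ} (e : g * te D ζ y₁ * g⁻¹ = te D ζ y₂) :
    ∃ (L : List (Fin D.rank)) (v d u : GL D.Idx K), v ∈ D.posUnipotent K ∧ d ∈ D.diagonalSubgroup K ∧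
      u ∈ S.UPsi K (Struct.Neg D (S.wpL L)) ∧ g = v * d * S.nL K L * u ∧
      te D ζ (matL D L *ᵥ y₁) = te D ζ y₂ ∧ te D ζ y₁ * u = u * te D ζ y₁ ∧ te D ζ y₂ * v = v * te D ζ y₂ := by
  obtain ⟨b, hb, n, hn, L, hact, u, hu, rfl⟩ := S.normal_form hN hg
  obtain ⟨L', hact', hiff⟩ := S.exists_act (mul_mem hn (inv_mem (S.nL_mem_mono (F := K) L)))
  have h1 := S.act_mul hact' (S.act_nL (F := K) L)
  rw [inv_mul_cancel_right] at h1
  have hd : n * (S.nL K L)⁻¹ ∈ D.diagonalSubgroup K := hiff.1 (mul_eq_right.1 (S.act_unique h1 hact))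
  obtain ⟨v, hv, d, hdd, eb⟩ := S.borel_decomp (mul_mem hb (Subgroup.mem_sup_right hd) :
    b * (n * (S.nL K L)⁻¹) ∈ D.borelSubgroup K)
  have eg : b * n * u = v * d * S.nL K L * u := by rw [← eb]; group
  refine ⟨L, v, d, u, hv, hdd, hu, eg, ?_⟩
  rw [eg, mul_inv_eq_iff_eq_mul] at e
  set t₁ := te D ζ y₁
  set t₂ := te D ζ y₂
  set t' := te D ζ (matL D L *ᵥ y₁) with ht'
  have ht1 : t₁ ∈ D.diagonalSubgroup K := te_mem S ζ y₁
  have ht2 : t₂ ∈ D.diagonalSubgroup K := te_mem S ζ y₂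
  have htd : t' ∈ D.diagonalSubgroup K := te_mem S ζ _
  have hu' : t₁⁻¹ * u * t₁ ∈ S.UPsi K (Struct.Neg D (S.wpL L)) := by
    have hle : S.UPsi K (Struct.Neg D (S.wpL L)) ≤
        (S.UPsi K (Struct.Neg D (S.wpL L))).comap (MulAut.conj t₁⁻¹).toMonoidHom := by
      refine (Subgroup.closure_le _).2 ?_
      rintro x ⟨r, t, hr, hΨ, rfl⟩
      obtain ⟨-, c, -, ec⟩ := S.act_diag (show t₁⁻¹ ∈ D.diagonalSubgroup K from inv_mem ht1) r
      show t₁⁻¹ * S.ok.xG r.val t * t₁⁻¹⁻¹ ∈ S.UPsi K (Struct.Neg D (S.wpL L))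
      rw [(ec t).1]
      exact Subgroup.subset_closure ⟨r, c * t, hr, hΨ, rfl⟩
    have := hle hu
    simpa using this
  have hn' : S.nL K L * t₁ = t' * S.nL K L := by
    rw [ht', ← nL_conj_te S ζ L y₁, inv_mul_cancel_right]
  have e1 : v * d * t' * S.nL K L * (t₁⁻¹ * u * t₁) = t₂ * (v * d) * S.nL K L * u := by
    calc v * d * t' * S.nL K L * (t₁⁻¹ * u * t₁) = v * d * (t' * S.nL K L) * t₁⁻¹ * u * t₁ := by group
      _ = v * d * S.nL K L * u * t₁ := by rw [← hn']; group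
      _ = t₂ * (v * d * S.nL K L * u) := e
      _ = _ := by group
  obtain ⟨eb', eu⟩ := S.normal_form_unique hN
    (mul_mem (mul_mem (S.B_le_of hv) (Subgroup.mem_sup_right hdd)) (Subgroup.mem_sup_right htd))
    (mul_mem (Subgroup.mem_sup_right ht2) (mul_mem (S.B_le_of hv) (Subgroup.mem_sup_right hdd)))
    (S.act_nL L) hu' hu e1
  have hucomm : t₁ * u = u * t₁ := by
    conv_lhs => rw [← eu]
    group
  have h2 : v * t' = t₂ * v := by
    rw [mul_assoc v, diag_comm S hdd htd, ← mul_assoc, ← mul_assoc] at eb'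
    exact mul_right_cancel eb'
  have hmem : v⁻¹ * (t₂ * v * t₂⁻¹) ∈ D.posUnipotent K ⊓ D.diagonalSubgroup K := by
    refine Subgroup.mem_inf.2 ⟨mul_mem (inv_mem hv)
      ((Subgroup.mem_normalizer_iff.1 (S.diag_normalises_U ht2) v).1 hv), ?_⟩
    rw [← h2, show v⁻¹ * (v * t' * t₂⁻¹) = t' * t₂⁻¹ by group]
    exact mul_mem htd (inv_mem ht2)
  rw [S.U_inf_H, Subgroup.mem_bot, inv_mul_eq_one, eq_comm, mul_inv_eq_iff_eq_mul] at hmem
  refine ⟨?_, hucomm, hmem⟩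
  rw [← h2] at hmem
  exact mul_left_cancel hmem

theorem te_congr (ζ : Kˣ) {N : ℕ} (hζ : orderOf ζ = N) {y z : Fin D.rank → ℤ}
    (h : ∀ i, (y i : ZMod N) = (z i : ZMod N)) : te D ζ y = te D ζ z := by
  unfold te
  congr 1
  funext i
  refine zpow_eq_zpow_iff_modEq.2 ?_
  rw [hζ, ← ZMod.intCast_eq_intCast_iff]
  exact h i

theorem exists_exponents {ζ : Kˣ} (hgen : ∀ c : Kˣ, c ∈ Subgroup.zpowers ζ) (c : Fin D.rank → Kˣ) :
    ∃ y, zc ζ y = c := by
  choose y hy using fun i => Subgroup.mem_zpowers_iff.1 (hgen (c i))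
  exact ⟨y, funext hy⟩

theorem te_eq_iff (ζ : Kˣ) {N : ℕ} (hζ : orderOf ζ = N) (hinj : Function.Injective (Ok.tG D K))
    {y z : Fin D.rank → ℤ} : te D ζ y = te D ζ z ↔ ∀ i, (y i : ZMod N) = (z i : ZMod N) := by
  refine ⟨fun h i => ?_, te_congr ζ hζ⟩
  rw [ZMod.intCast_eq_intCast_iff, ← hζ]
  exact zpow_eq_zpow_iff_modEq.1 (congrFun (hinj h) i)

end Cfsg.Lib.CyclicTorus
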