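import Cfsg.Agent.Chev.CyclicTorus.Main
import Cfsg.Agent.Components.Misc.Zsigmondy

/-! Arithmetic input for the cyclic tori: a primitive prime and the square test. -/

set_option autoImplicit false
set_option linter.style.haveILetI false

open Cfsg.Lie

namespace Cfsg.Lib.CyclicTorus

open Cfsg.Lib.Chev Polynomial

variable {D : ChevalleyDatum} {C : Cert}

theorem exists_primitive_prime {q d : ℕ} (hq : 1 < q) (hd : 2 < d) (h6 : d ≠ 6) :
    ∃ r : ℕ, r.Prime ∧ d ∣ r - 1 ∧ IsPrimitiveRoot ((q : ℤ) : ZMod r) d := by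
  obtain ⟨r, hr, hrd, hmin⟩ :=
    Cfsg.Lib.Zsigmondy.zsigmondy q d hq (by omega) (fun h => h6 h.2) (fun h => by omega)
  haveI := Fact.mk hr
  have hpow : ∀ k, ((q : ZMod r) ^ k = 1 ↔ r ∣ q ^ k - 1) := fun k => by
    rw [← ZMod.natCast_eq_zero_iff, Nat.cast_sub (Nat.one_le_pow _ _ (by omega)), sub_eq_zero]
    simp
  have hp : IsPrimitiveRoot ((q : ℤ) : ZMod r) d := by
    rw [Int.cast_natCast]
    exact IsPrimitiveRoot.mk_of_lt _ (by omega) ((hpow d).2 hrd) fun l h0 hl h => hmin l h0 hl ((hpow l).1 h)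
  refine ⟨r, hr, hp.dvd_of_pow_eq_one _ (ZMod.pow_card_sub_one_eq_one fun h => ?_), hp⟩
  have h1 := hp.pow_eq_one
  rw [h, zero_pow (by omega)] at h1
  exact zero_ne_one h1

theorem exists_square_test (d : ℕ) (q : ℤ) (s : ℕ) (hs : s.Prime) (hsd : ¬ s ∣ d)
    (hdiv : (s : ℤ) ∣ (cyclotomic d ℤ).eval q) :
    ∃ q' : ℤ, (q' : ZMod s) = (q : ZMod s) ∧ ¬ (s : ℤ) ^ 2 ∣ (cyclotomic d ℤ).eval q' := by
  haveI := Fact.mk hs
  by_contra hno
  push Not at hno
  set P := cyclotomic d ℤ with hP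
  have h1 := hno q rfl
  have h2 := hno (q + s) (by simp)
  obtain ⟨k, hk⟩ := P.binomExpansion q (s : ℤ)
  rw [hk] at h2
  have h3 : (s : ℤ) * s ∣ (derivative P).eval q * (s : ℤ) := by
    have := Int.dvd_sub (Int.dvd_sub h2 h1) (Dvd.intro_left k rfl : (s : ℤ) ^ 2 ∣ k * (s : ℤ) ^ 2)
    rw [← sq]
    convert this using 1
    ring
  have h4 : (s : ℤ) ∣ (derivative P).eval q :=
    (mul_dvd_mul_iff_right (Int.natCast_ne_zero.2 hs.ne_zero)).1 h3
  obtain ⟨R, hR⟩ := cyclotomic.dvd_X_pow_sub_one d ℤ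
  rw [← hP] at hR
  have h5 := congrArg (fun p => (derivative p).eval q) hR
  have h6 := congrArg (fun p => Polynomial.eval q p) hR
  simp only [derivative_sub, derivative_X_pow, derivative_one, sub_zero, eval_mul, eval_C, eval_pow, eval_X,
    derivative_mul, eval_add] at h5
  simp only [eval_sub, eval_pow, eval_X, eval_one, eval_mul] at h6
  rw [← ZMod.intCast_zmod_eq_zero_iff_dvd] at hdiv h4
  have e5 := congrArg (fun z : ℤ => (z : ZMod s)) h5
  have e6 := congrArg (fun z : ℤ => (z : ZMod s)) h6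
  push_cast at e5 e6
  rw [hdiv, h4, zero_mul, zero_mul, zero_add] at e5
  rw [hdiv, zero_mul, sub_eq_zero] at e6
  have hd0 : d ≠ 0 := by rintro rfl; exact hsd (dvd_zero s)
  have hqne : (q : ZMod s) ≠ 0 := by
    intro h; rw [h, zero_pow hd0] at e6; exact zero_ne_one e6
  rcases mul_eq_zero.1 e5 with h | h
  · exact hsd ((ZMod.natCast_eq_zero_iff _ _).1 h)
  · exact pow_ne_zero _ hqne h

theorem exists_selfcent' (S : Struct D C) (hN : okNeg D = true) {Minv : List (List ℤ)}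
    (hU : okUni D Minv 1 = true) (hMinv : okInv D Minv 1 = true) {Ls : List Lev} {ds : List ℕ}
    (hP : okPoincare C Ls ds = true) (hlen : ds.length = D.rank) {d : ℕ} (hd : d.totient = D.rank) (hd2 : 2 < d)
    (hd6 : d ≠ 6) (hdmem : ∃ e ∈ ds, d ∣ e) {W : ℕ} (hcardW : Nat.card ↥S.WG = W)
    (hbad : ∀ r : ℕ, r.Prime → d ∣ r - 1 → ¬ r ∣ W ∧ ∀ e ∈ ds, ¬ r ∣ e)
    (F : Type*) [Field F] [Fintype F]
    (hsq : ∀ s : ℕ, s.Prime → s ∣ d → ∀ z : ℤ, (s : ℤ) ∣ (cyclotomic d ℤ).eval z →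
      ∃ q' : ℤ, (q' : ZMod s) = (z : ZMod s) ∧ ¬ (s : ℤ) ^ 2 ∣ (cyclotomic d ℤ).eval q') :
    ∃ H : Subgroup ↥(D.group F), IsCyclic ↥H ∧
      (Nat.card ↥H : ℤ) = (cyclotomic d ℤ).eval (Fintype.card F : ℤ) ∧
      Subgroup.centralizer (H : Set ↥(D.group F)) = H := by
  obtain ⟨r, hr, hrd, hprim⟩ := exists_primitive_prime (Fintype.one_lt_card (α := F)) hd2 hd6
  haveI := Fact.mk hr
  obtain ⟨a, ha⟩ := exists_uni hU
  obtain ⟨hW, hds⟩ := hbad r hr hrd
  refine exists_selfcent S hN ha hMinv hP F hd (by omega) hlen hdmem hprim (hcardW ▸ hW) hds fun s hs hdiv => ?_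
  by_cases h : s ∣ d
  · exact hsq s hs h _ hdiv
  · exact exists_square_test d _ s hs h hdiv

theorem eval_three (x : ℤ) : (cyclotomic 3 ℤ).eval x = x ^ 2 + x + 1 := by
  haveI : Fact (Nat.Prime 3) := ⟨Nat.prime_three⟩
  rw [cyclotomic_prime ℤ 3]
  simp [Finset.sum_range_succ, eval_add, eval_pow]
  ring

theorem eval_cyclotomic_thirty (x : ℤ) (hx : 2 ≤ x) :
    (cyclotomic 30 ℤ).eval x = x ^ 8 + x ^ 7 - x ^ 5 - x ^ 4 - x ^ 3 + x + 1 := by
  have e15 : ∀ y : ℤ, (cyclotomic 15 ℤ).eval y * (y ^ 2 + y + 1) = (y ^ 5) ^ 2 + y ^ 5 + 1 := fun y => by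
    have h := congrArg (Polynomial.eval y)
      (cyclotomic_expand_eq_cyclotomic_mul (p := 5) (n := 3) (by norm_num) (by norm_num) ℤ)
    rw [expand_eval, eval_mul, eval_three, eval_three] at h
    exact h.symm
  have h30 := congrArg (Polynomial.eval x)
    (cyclotomic_expand_eq_cyclotomic_mul (p := 2) (n := 15) (by norm_num) (by norm_num) ℤ)
  rw [expand_eval, eval_mul] at h30
  norm_num at h30
  have hp : (0 : ℤ) < x ^ 10 + x ^ 5 + 1 := by positivity
  have hp2 : (0 : ℤ) < (x ^ 2) ^ 2 + x ^ 2 + 1 := by positivity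
  refine mul_right_cancel₀ (mul_pos hp hp2).ne' ?_
  linear_combination (-(x ^ 2 + x + 1) * ((x ^ 2) ^ 2 + x ^ 2 + 1)) * h30
    - ((x ^ 2) ^ 2 + x ^ 2 + 1) * (cyclotomic 30 ℤ).eval x * e15 x + (x ^ 2 + x + 1) * e15 (x ^ 2)

theorem not_dvd_eval_cyclotomic_thirty {s : ℕ} (hs : s.Prime) (hsd : s ∣ 30) (z : ℤ) :
    ¬ (s : ℤ) ∣ (cyclotomic 30 ℤ).eval z := by
  intro h
  have hs0 : (0 : ℤ) < s := Int.natCast_pos.2 hs.pos
  have h2 : (s : ℤ) ∣ (cyclotomic 30 ℤ).eval (z % s + s * 2) :=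
    (dvd_iff_dvd_of_dvd_sub ((((show (s : ℤ) ∣ z - (z % s + s * 2) from
      ⟨z / s - 2, by have := Int.emod_add_mul_ediv z s; linarith⟩))).trans
        (sub_dvd_eval_sub _ _ _))).1 h
  rw [eval_cyclotomic_thirty _ (by have := Int.emod_nonneg z hs0.ne'; have := hs.two_le; omega)] at h2
  have h4 : s = 2 ∨ s = 3 ∨ s = 5 := by
    have hle : s ≤ 30 := Nat.le_of_dvd (by norm_num) hsd
    interval_cases s <;> first | omega | (exact absurd hsd (by decide)) | (exact absurd hs (by decide))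
  rw [← ZMod.intCast_zmod_eq_zero_iff_dvd] at h2
  push_cast at h2
  simp only [ZMod.natCast_self, zero_mul, add_zero] at h2
  generalize ((z : ℤ) : ZMod s) = y at h2
  rcases h4 with rfl | rfl | rfl <;> revert h2 <;> revert y <;> decide

end Cfsg.Lib.CyclicTorus
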