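import Mathlib

/-! Kernels of integral matrices modulo `N`; finite-order matrices with a primitive eigenvalue modulo a prime. -/

set_option autoImplicit false
set_option linter.unusedSectionVars false
set_option linter.unusedSimpArgs false
set_option linter.style.haveILetI false

namespace Cfsg.Lib.CyclicTorus

open Matrix Polynomial

variable {l : ℕ}

/-- A matrix reduced modulo `N`. -/
def red (N : ℕ) (A : Matrix (Fin l) (Fin l) ℤ) : Matrix (Fin l) (Fin l) (ZMod N) :=
  A.map (Int.cast : ℤ → ZMod N)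

theorem red_mulVec (N : ℕ) (A : Matrix (Fin l) (Fin l) ℤ) (u : Fin l → ℤ) :
    red N A *ᵥ (fun i => (u i : ZMod N)) = fun i => ((A *ᵥ u) i : ZMod N) := by
  funext i
  simp [red, mulVec, dotProduct]

/-- The vectors modulo `N` killed by `A`. -/
noncomputable def kerN (N : ℕ) (A : Matrix (Fin l) (Fin l) ℤ) : AddSubgroup (Fin l → ZMod N) :=
  (Matrix.mulVecLin (red N A)).toAddMonoidHom.ker

theorem mem_kerN {N : ℕ} {A : Matrix (Fin l) (Fin l) ℤ} {v : Fin l → ZMod N} :
    v ∈ kerN N A ↔ red N A *ᵥ v = 0 := Iff.rfl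

theorem exists_int_lift {N : ℕ} (v : Fin l → ZMod N) : ∃ u : Fin l → ℤ, (fun i => (u i : ZMod N)) = v :=
  ⟨fun i => (ZMod.intCast_surjective (v i)).choose, funext fun i => (ZMod.intCast_surjective (v i)).choose_spec⟩

theorem card_kerN {N : ℕ} [NeZero N] (A : Matrix (Fin l) (Fin l) ℤ) (hA : A.det ≠ 0)
    (hN : (A.det.natAbs : ℕ) ∣ N) : Nat.card ↥(kerN N A) = A.det.natAbs := by
  classical
  obtain ⟨k, hk⟩ := Int.natAbs_dvd.1 (Int.natCast_dvd_natCast.2 hN) |>.trans (dvd_refl (N : ℤ))
  let B : Matrix (Fin l) (Fin l) ℤ := k • A.adjugate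
  have hAB : A * B = (N : ℤ) • 1 := by
    rw [Matrix.mul_smul, Matrix.mul_adjugate, smul_smul, hk, mul_comm]
  have hBA : B * A = (N : ℤ) • 1 := by
    rw [Matrix.smul_mul, Matrix.adjugate_mul, smul_smul, hk, mul_comm]
  have hinjA : Function.Injective (fun v : Fin l → ℤ => A *ᵥ v) := Matrix.mulVec_injective_iff.2 (by
    have := Matrix.linearIndependent_rows_of_det_ne_zero (A := A.transpose) (by rwa [det_transpose])
    exact this)
  let f : (Fin l → ℤ) →+ ↥(kerN N A) :=
    { toFun := fun u => ⟨fun i => ((B *ᵥ u) i : ZMod N), by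
        rw [mem_kerN, red_mulVec, Matrix.mulVec_mulVec, hAB]
        funext i
        simp [Matrix.smul_mulVec]⟩
      map_zero' := Subtype.ext (funext fun i => by simp)
      map_add' := fun a b => Subtype.ext (funext fun i => by simp [Matrix.mulVec_add]) }
  have hsurj : Function.Surjective f := by
    rintro ⟨v, hv⟩
    obtain ⟨u, rfl⟩ := exists_int_lift v
    rw [mem_kerN, red_mulVec] at hv
    have hd : ∀ i, (N : ℤ) ∣ (A *ᵥ u) i := fun i =>
      (ZMod.intCast_zmod_eq_zero_iff_dvd _ _).1 (congrFun hv i)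
    choose w hw using hd
    refine ⟨w, Subtype.ext (funext fun i => ?_)⟩
    have h1 : A *ᵥ (B *ᵥ w) = A *ᵥ u := by
      rw [Matrix.mulVec_mulVec, hAB, Matrix.smul_mulVec, Matrix.one_mulVec]
      funext i; rw [hw i]; rfl
    show ((B *ᵥ w) i : ZMod N) = (u i : ZMod N)
    rw [hinjA h1]
  have hker : f.ker = (Matrix.mulVecLin A).range.toAddSubgroup := by
    ext u
    constructor
    · intro hu
      have hd : ∀ i, (N : ℤ) ∣ (B *ᵥ u) i := fun i =>
        (ZMod.intCast_zmod_eq_zero_iff_dvd _ _).1 (congrFun (congrArg Subtype.val hu) i)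
      choose w hw using hd
      refine ⟨w, ?_⟩
      have h1 : A *ᵥ (B *ᵥ u) = A *ᵥ ((N : ℤ) • w) := by
        congr 1; funext i; rw [hw i]; rfl
      rw [Matrix.mulVec_mulVec, hAB, Matrix.smul_mulVec, Matrix.one_mulVec, Matrix.mulVec_smul] at h1
      exact (smul_right_injective (Fin l → ℤ) (Int.natCast_ne_zero.2 (NeZero.ne N)) h1).symm
    · rintro ⟨w, rfl⟩
      refine Subtype.ext (funext fun i => ?_)
      show ((B *ᵥ (A *ᵥ w)) i : ZMod N) = 0
      rw [Matrix.mulVec_mulVec, hBA]
      simp [Matrix.smul_mulVec]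
  rw [← AddSubgroup.card_top (G := ↥(kerN N A))] at *
  let e : (Fin l → ℤ) ≃+ ↥(Matrix.mulVecLin A).range :=
    (LinearEquiv.ofInjective (Matrix.mulVecLin A) hinjA).toAddEquiv
  have hdet := Submodule.natAbs_det_equiv (Matrix.mulVecLin A).range e
  have he : (Matrix.mulVecLin A).range.subtype ∘ₗ AddMonoidHom.toIntLinearMap (e : (Fin l → ℤ) →+ _) =
      Matrix.toLin' A := by
    refine LinearMap.ext fun x => ?_
    rfl
  rw [he, LinearMap.det_toLin'] at hdet
  rw [hdet, AddSubgroup.card_top]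
  have h1 := Nat.card_congr (QuotientAddGroup.quotientKerEquivOfSurjective f hsurj).toEquiv
  rw [← h1, hker]
  rfl

theorem card_torsion_kerN_le {N : ℕ} [NeZero N] (A A' : Matrix (Fin l) (Fin l) ℤ) {s : ℕ} [Fact s.Prime]
    (hcong : ∀ i j, (A' i j : ZMod s) = (A i j : ZMod s)) (hd : ¬ (s : ℤ) ^ 2 ∣ A'.det) :
    Nat.card {v : ↥(kerN N A) // s • v = 0} ≤ s := by
  classical
  have hs : s.Prime := Fact.out
  -- the kernel modulo `s` is at most a line
  have hker : Nat.card {u : Fin l → ZMod s // red s A *ᵥ u = 0} ≤ s := by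
    by_contra hlt
    rw [not_le] at hlt
    have hadj : ∀ i j, (A'.adjugate i j : ZMod s) = 0 := by
      intro i j
      have e := RingHom.map_adjugate (Int.castRingHom (ZMod s)) A'
      have e' : ((Int.castRingHom (ZMod s)).mapMatrix A') = red s A := Matrix.ext fun a b => hcong a b
      rw [e'] at e
      have e2 := congrFun (congrFun e i) j
      simp only [RingHom.mapMatrix_apply, Matrix.map_apply, eq_intCast] at e2
      rw [e2, Matrix.adjugate_apply]
      have hnz : ∃ u : Fin l → ZMod s, red s A *ᵥ u = 0 ∧ u i = 0 ∧ u ≠ 0 := by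
        by_contra hno
        have hinj : Function.Injective (fun u : {u : Fin l → ZMod s // red s A *ᵥ u = 0} => u.1 i) := by
          intro a b hab
          by_contra hne
          refine hno ⟨a.1 - b.1, by rw [Matrix.mulVec_sub, a.2, b.2, sub_zero], by simp [show a.1 i = b.1 i from hab],
            sub_ne_zero.2 fun h => hne (Subtype.ext h)⟩
        have := Nat.card_le_card_of_injective _ hinj
        rw [Nat.card_zmod] at this
        omega
      obtain ⟨u, hu, hui, hu0⟩ := hnz
      refine Matrix.exists_mulVec_eq_zero_iff.1 ⟨u, hu0, ?_⟩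
      funext a
      by_cases ha : a = j
      · subst ha
        simp [Matrix.mulVec, Matrix.updateRow_self, hui]
      · have := congrFun hu a
        simpa [Matrix.mulVec, Matrix.updateRow_ne ha] using this
    have hd1 : ∀ i j, (s : ℤ) ∣ A'.adjugate i j := fun i j => (ZMod.intCast_zmod_eq_zero_iff_dvd _ _).1 (hadj i j)
    choose B hB using hd1
    have e : A'.adjugate = (s : ℤ) • Matrix.of B := Matrix.ext fun i j => by simp [hB i j]
    have e2 := Matrix.det_adjugate A'
    rw [e, Matrix.det_smul, Fintype.card_fin] at e2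
    have hl : 1 ≤ l := by
      rcases Nat.eq_zero_or_pos l with rfl | h
      · have : Nat.card {u : Fin 0 → ZMod s // red s A *ᵥ u = 0} ≤ 1 := by
          rw [Finite.card_le_one_iff_subsingleton]; infer_instance
        have := hs.two_le
        omega
      · exact h
    have hdvd : (s : ℤ) ^ l ∣ A'.det ^ (l - 1) := Dvd.intro _ e2
    have hp : Prime (s : ℤ) := Nat.prime_iff_prime_int.1 hs
    by_cases h1 : (s : ℤ) ∣ A'.det
    · obtain ⟨D', hD'⟩ := h1
      have hnd : ¬ (s : ℤ) ∣ D' := fun h => hd (by rw [hD', pow_two]; exact mul_dvd_mul_left _ h)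
      rw [hD', mul_pow, show l = (l - 1) + 1 by omega, pow_succ, Nat.add_sub_cancel,
        mul_dvd_mul_iff_left (pow_ne_zero _ hp.ne_zero)] at hdvd
      exact hnd (hp.dvd_of_dvd_pow hdvd)
    · exact h1 (hp.dvd_of_dvd_pow ((dvd_pow_self _ (by omega)).trans hdvd))
  by_cases hsN : s ∣ N
  · obtain ⟨k, hk⟩ := hsN
    have hk0 : k ≠ 0 := fun h => NeZero.ne N (by rw [hk, h, mul_zero])
    -- every `s`-torsion vector is `k` times a kernel vector modulo `s`
    have hlift : ∀ v : {v : ↥(kerN N A) // s • v = 0}, ∃ u : Fin l → ℤ,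
        (fun i => (((k : ℤ) * u i : ℤ) : ZMod N)) = v.1.1 ∧ red s A *ᵥ (fun i => (u i : ZMod s)) = 0 := by
      rintro ⟨⟨v, hv⟩, hsv⟩
      obtain ⟨w, rfl⟩ := exists_int_lift v
      have hd1 : ∀ i, (k : ℤ) ∣ w i := fun i => by
        have h1 := congrFun (congrArg Subtype.val hsv) i
        change (s • ((w i : ℤ) : ZMod N)) = 0 at h1
        rw [nsmul_eq_mul, ← Int.cast_natCast, ← Int.cast_mul, ZMod.intCast_zmod_eq_zero_iff_dvd, hk] at h1
        push_cast at h1
        exact (mul_dvd_mul_iff_left (Int.natCast_ne_zero.2 hs.ne_zero)).1 h1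
      choose u hu using hd1
      refine ⟨u, funext fun i => by show _ = ((w i : ℤ) : ZMod N); rw [hu i], ?_⟩
      rw [mem_kerN, red_mulVec] at hv
      rw [red_mulVec]
      funext i
      have h2 := (ZMod.intCast_zmod_eq_zero_iff_dvd _ _).1 (congrFun hv i)
      have e : (A *ᵥ w) i = (k : ℤ) * (A *ᵥ u) i := by
        rw [show w = (k : ℤ) • u from funext fun i => hu i, Matrix.mulVec_smul]; rfl
      rw [e, hk] at h2
      push_cast at h2
      rw [mul_comm (s : ℤ), mul_dvd_mul_iff_left (Int.natCast_ne_zero.2 hk0)] at h2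
      exact (ZMod.intCast_zmod_eq_zero_iff_dvd _ _).2 h2
    choose U hU1 hU2 using hlift
    refine le_trans (Nat.card_le_card_of_injective (fun v => (⟨_, hU2 v⟩ : {u : Fin l → ZMod s // red s A *ᵥ u = 0}))
      fun a b hab => ?_) hker
    refine Subtype.ext (Subtype.ext ?_)
    rw [← hU1 a, ← hU1 b]
    funext i
    have h3 := congrFun (congrArg Subtype.val hab) i
    simp only at h3
    rw [ZMod.intCast_eq_intCast_iff_dvd_sub] at h3 ⊢
    rw [hk, ← mul_sub]
    push_cast
    rw [mul_comm (s : ℤ)]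
    exact mul_dvd_mul_left _ h3
  · have hone : ∀ v : {v : ↥(kerN N A) // s • v = 0}, v = ⟨0, smul_zero _⟩ := by
      rintro ⟨⟨v, hv⟩, hsv⟩
      refine Subtype.ext (Subtype.ext (funext fun i => ?_))
      have h1 := congrFun (congrArg Subtype.val hsv) i
      change s • v i = 0 at h1
      show v i = 0
      rw [← ZMod.natCast_zmod_val (v i), nsmul_eq_mul, ← Nat.cast_mul, ZMod.natCast_eq_zero_iff] at h1
      rw [← ZMod.natCast_zmod_val (v i), ZMod.natCast_eq_zero_iff]
      exact (Nat.Coprime.dvd_of_dvd_mul_left ((hs.coprime_iff_not_dvd.2 hsN).symm) h1)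
    haveI : Subsingleton {v : ↥(kerN N A) // s • v = 0} := ⟨fun a b => (hone a).trans (hone b).symm⟩
    exact (Finite.card_le_one_iff_subsingleton.2 inferInstance).trans hs.one_le

theorem isAddCyclic_of_prime_torsion {V : Type*} [AddCommGroup V] [Finite V]
    (h : ∀ s : ℕ, s.Prime → Nat.card {v : V // s • v = 0} ≤ s) : IsAddCyclic V := by
  classical
  haveI := Fintype.ofFinite V
  have key : ∀ n : ℕ, 0 < n → Nat.card {v : V // n • v = 0} ≤ n := by
    intro n
    induction n using induction_on_primes with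
    | zero => intro h0; omega
    | one =>
      intro _
      haveI : Subsingleton {v : V // 1 • v = 0} :=
        ⟨fun a b => Subtype.ext (by have := a.2; have := b.2; simp_all [one_nsmul])⟩
      exact Finite.card_le_one_iff_subsingleton.2 inferInstance
    | prime_mul s a hs ih =>
      intro hpos
      let T : AddSubgroup V := (nsmulAddMonoidHom (α := V) (s * a)).ker
      let f : ↥T →+ V := (nsmulAddMonoidHom (α := V) s).comp T.subtype
      have e1 : Nat.card {v : V // (s * a) • v = 0} = Nat.card ↥T := rfl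
      rw [e1, ← f.ker.index_mul_card, AddSubgroup.index_ker]
      have hle1 : Nat.card ↥f.range ≤ a := by
        refine le_trans ?_ (ih (Nat.pos_of_mul_pos_left hpos))
        refine Nat.card_le_card_of_injective (fun v => ⟨v.1, ?_⟩) fun x y hxy => Subtype.ext (by simpa using hxy)
        obtain ⟨w, hw⟩ := v.2
        rw [← hw]
        show a • (s • (w : V)) = 0
        rw [← mul_nsmul]
        exact w.2
      have hle2 : Nat.card ↥f.ker ≤ s := by
        refine le_trans ?_ (h s hs)
        exact Nat.card_le_card_of_injective (fun v => ⟨((v : ↥T) : V), v.2⟩)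
          fun x y hxy => Subtype.ext (Subtype.ext (congrArg Subtype.val hxy :))
      rw [mul_comm s a]
      exact Nat.mul_le_mul hle1 hle2
  refine isAddCyclic_of_card_nsmul_eq_zero_le fun n hn => ?_
  rw [← Fintype.card_subtype, ← Nat.card_eq_fintype_card]
  exact key n hn

theorem root_pow_eq_one (M : Matrix (Fin l) (Fin l) ℤ) {m : ℕ} (hm : M ^ m = 1) :
    ∀ z : ℂ, (M.charpoly.map (Int.castRingHom ℂ)).IsRoot z → z ^ m = 1 := by
  intro z hz
  have hz' : Matrix.det (Matrix.scalar (Fin l) z - M.map (Int.castRingHom ℂ)) = 0 := by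
    rw [← Matrix.charpoly_map] at hz
    rwa [IsRoot.def, Matrix.eval_charpoly] at hz
  obtain ⟨v, hv0, hv⟩ := Matrix.exists_mulVec_eq_zero_iff.2 hz'
  rw [Matrix.sub_mulVec, sub_eq_zero] at hv
  have hMv : M.map (Int.castRingHom ℂ) *ᵥ v = z • v := by
    rw [← hv]; funext i; simp [Matrix.mulVec_diagonal]
  have hk : ∀ k : ℕ, (M.map (Int.castRingHom ℂ)) ^ k *ᵥ v = z ^ k • v := by
    intro k
    induction k with
    | zero => simp
    | succ k ih => rw [pow_succ, ← Matrix.mulVec_mulVec, hMv, Matrix.mulVec_smul, ih, smul_smul, pow_succ']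
  have h1 := hk m
  rw [← RingHom.mapMatrix_apply, ← map_pow, hm, map_one, Matrix.one_mulVec] at h1
  have h2 : (z ^ m - 1) • v = 0 := by rw [sub_smul, one_smul, ← h1, sub_self]
  exact sub_eq_zero.1 ((smul_eq_zero.1 h2).resolve_right hv0)

theorem exists_cyclotomic_factor {m r : ℕ} (hm0 : 0 < m) [Fact r.Prime] {q : ℤ} :
    ∀ P : ℤ[X], P.Monic → (∀ z : ℂ, (P.map (Int.castRingHom ℂ)).IsRoot z → z ^ m = 1) →
      (P.map (Int.castRingHom (ZMod r))).IsRoot (q : ZMod r) →
      ∃ e, e ∣ m ∧ cyclotomic e ℤ ∣ P ∧ ((cyclotomic e ℤ).map (Int.castRingHom (ZMod r))).IsRoot (q : ZMod r) := by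
  intro P
  induction hn : P.natDegree using Nat.strong_induction_on generalizing P with
  | _ n ih =>
    intro hP hroots hqr
    have hn0 : n ≠ 0 := by
      intro h0
      rw [h0] at hn
      rw [(hP.natDegree_eq_zero).1 hn, Polynomial.map_one] at hqr
      simp [IsRoot.def] at hqr
    obtain ⟨z, hz⟩ := IsAlgClosed.exists_root (P.map (Int.castRingHom ℂ)) (by
      rw [degree_eq_natDegree (hP.map _).ne_zero, hP.natDegree_map, hn]
      exact_mod_cast hn0)
    have hzm := hroots z hz
    have hzo : IsPrimitiveRoot z (orderOf z) := IsPrimitiveRoot.orderOf z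
    have hem : orderOf z ∣ m := orderOf_dvd_iff_pow_eq_one.2 hzm
    have he0 : 0 < orderOf z := Nat.pos_of_dvd_of_pos hem hm0
    have hdiv : cyclotomic (orderOf z) ℤ ∣ P := by
      rw [cyclotomic_eq_minpoly hzo he0]
      refine minpoly.isIntegrallyClosed_dvd ?_ ?_
      · exact hzo.isIntegral he0
      · rw [aeval_def, ← eval_map]
        exact hz
    obtain ⟨Q, hQ⟩ := hdiv
    have hQm : Q.Monic := (cyclotomic.monic _ ℤ).of_mul_monic_left (hQ ▸ hP)
    rw [hQ, Polynomial.map_mul, IsRoot.def, eval_mul, mul_eq_zero] at hqr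
    rcases hqr with hqr | hqr
    · exact ⟨orderOf z, hem, hQ ▸ dvd_mul_right _ _, hqr⟩
    · have hlt : Q.natDegree < n := by
        rw [← hn, hQ, (cyclotomic.monic _ ℤ).natDegree_mul hQm, natDegree_cyclotomic]
        have := Nat.totient_pos.2 he0
        omega
      obtain ⟨e, he, hdvd, hr'⟩ := ih Q.natDegree hlt Q rfl hQm (fun w hw => hroots w (by
        rw [hQ, Polynomial.map_mul, IsRoot.def, eval_mul, hw, mul_zero])) hqr
      exact ⟨e, he, hQ ▸ hdvd.mul_left _, hr'⟩

theorem cyclotomic_dvd_of_root {m d r : ℕ} (hm0 : 0 < m) [Fact r.Prime] (hrm : ¬ r ∣ m) {q : ℤ}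
    (hq : IsPrimitiveRoot (q : ZMod r) d) {P : ℤ[X]} (hP : P.Monic)
    (hroot : ∀ z : ℂ, (P.map (Int.castRingHom ℂ)).IsRoot z → z ^ m = 1)
    (hqroot : (P.map (Int.castRingHom (ZMod r))).IsRoot (q : ZMod r)) : cyclotomic d ℤ ∣ P := by
  obtain ⟨e, hem, hdvd, hre⟩ := exists_cyclotomic_factor hm0 P hP hroot hqroot
  rw [map_cyclotomic] at hre
  haveI : NeZero (e : ZMod r) := ⟨fun h => hrm (((ZMod.natCast_eq_zero_iff _ _).1 h).trans hem)⟩
  rwa [(isRoot_cyclotomic_iff.1 hre).unique hq] at hdvd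

theorem isRoot_charpoly_of_eigen (M : Matrix (Fin l) (Fin l) ℤ) {r : ℕ} [Fact r.Prime] {q : ℤ}
    {y : Fin l → ℤ} (hy : ∃ i, (y i : ZMod r) ≠ 0)
    (heig : ∀ i, ((M *ᵥ y) i : ZMod r) = (q : ZMod r) * (y i : ZMod r)) :
    (M.charpoly.map (Int.castRingHom (ZMod r))).IsRoot (q : ZMod r) := by
  classical
  obtain ⟨i₀, hi₀⟩ := hy
  rw [← Matrix.charpoly_map, IsRoot.def, Matrix.eval_charpoly, ← Matrix.exists_mulVec_eq_zero_iff]
  refine ⟨fun i => (y i : ZMod r), fun h => hi₀ (congrFun h i₀), ?_⟩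
  rw [Matrix.sub_mulVec, sub_eq_zero]
  funext i
  rw [Matrix.scalar_apply, Matrix.mulVec_diagonal, ← heig i]
  exact (congrFun (red_mulVec r M y) i).symm

theorem charpoly_eq_cyclotomic (M : Matrix (Fin l) (Fin l) ℤ) {m d r : ℕ} (hm : M ^ m = 1) (hm0 : 0 < m)
    [Fact r.Prime] (hrm : ¬ r ∣ m) {q : ℤ} (hq : IsPrimitiveRoot (q : ZMod r) d)
    (hd : d.totient = l) {y : Fin l → ℤ} (hy : ∃ i, (y i : ZMod r) ≠ 0)
    (heig : ∀ i, ((M *ᵥ y) i : ZMod r) = (q : ZMod r) * (y i : ZMod r)) :
    M.charpoly = cyclotomic d ℤ := by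
  have hmonic := Matrix.charpoly_monic M
  obtain ⟨Q, hQ⟩ := cyclotomic_dvd_of_root hm0 hrm hq hmonic (root_pow_eq_one M hm)
    (isRoot_charpoly_of_eigen M hy heig)
  have hQm : Q.Monic := (cyclotomic.monic _ ℤ).of_mul_monic_left (hQ ▸ hmonic)
  have : Q.natDegree = 0 := by
    have h1 := congrArg natDegree hQ
    rw [Matrix.charpoly_natDegree_eq_dim, Fintype.card_fin, (cyclotomic.monic _ ℤ).natDegree_mul hQm,
      natDegree_cyclotomic, hd] at h1
    omega
  rw [hQ, (hQm.natDegree_eq_zero).1 this, mul_one]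

/-- A functional vanishing on the orbit of a non-zero vector under a matrix with irreducible characteristic
polynomial vanishes. -/
theorem functional_eq_zero (M : Matrix (Fin l) (Fin l) ℤ) {d : ℕ} (hd0 : 0 < d)
    (hM : M.charpoly = cyclotomic d ℤ) {z c : Fin l → ℤ} (hz : z ≠ 0)
    (h : ∀ k : ℕ, c ⬝ᵥ (M ^ k *ᵥ z) = 0) : c = 0 := by
  classical
  set Mq : Matrix (Fin l) (Fin l) ℚ := M.map (Int.castRingHom ℚ) with hMq
  have hchar : Mq.charpoly = cyclotomic d ℚ := by rw [hMq, Matrix.charpoly_map, hM, map_cyclotomic]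
  have hdim : (cyclotomic d ℚ).natDegree = l := by
    rw [← hchar, Matrix.charpoly_natDegree_eq_dim, Fintype.card_fin]
  let zq : Fin l → ℚ := fun i => (z i : ℚ)
  have hpow : ∀ k : ℕ, Mq ^ k *ᵥ zq = fun i => ((M ^ k *ᵥ z) i : ℚ) := fun k => by
    rw [hMq, ← RingHom.mapMatrix_apply, ← map_pow]
    funext i
    simp [zq, Matrix.mulVec, dotProduct]
  let Φ : ℚ[X] →ₗ[ℚ] (Fin l → ℚ) :=
    { toFun := fun P => aeval Mq P *ᵥ zq
      map_add' := fun a b => by rw [map_add, Matrix.add_mulVec]
      map_smul' := fun a b => by rw [map_smul, Matrix.smul_mulVec]; rfl }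
  have hirr : Irreducible (cyclotomic d ℚ) := cyclotomic.irreducible_rat hd0
  have hCH : aeval Mq (cyclotomic d ℚ) = 0 := hchar ▸ Matrix.aeval_self_charpoly Mq
  have hli : LinearIndependent ℚ (fun k : Fin l => Mq ^ (k : ℕ) *ᵥ zq) := by
    rw [Fintype.linearIndependent_iff]
    intro a ha i
    let P : ℚ[X] := ∑ k : Fin l, Polynomial.monomial (k : ℕ) (a k)
    have hP : aeval Mq P *ᵥ zq = 0 := by
      rw [← ha]
      simp only [P, map_sum, aeval_monomial, Matrix.sum_mulVec]
      refine Finset.sum_congr rfl fun k _ => ?_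
      rw [← Algebra.smul_def, Matrix.smul_mulVec]
    by_contra hne
    have hP0 : P ≠ 0 := by
      intro h0
      have h1 := congrArg (fun p : ℚ[X] => p.coeff i) h0
      simp only [P, finset_sum_coeff, coeff_monomial, coeff_zero] at h1
      rw [Finset.sum_eq_single i (fun b _ hb => if_neg (fun e => hb (Fin.ext e))) (by simp), if_pos rfl] at h1
      exact hne h1
    have hdegP : P.natDegree < l := by
      refine lt_of_le_of_lt (natDegree_sum_le_of_forall_le _ _ (n := l - 1) fun k _ => ?_) (by have := i.isLt; omega)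
      exact (natDegree_monomial_le _).trans (by have := k.isLt; omega)
    have hcop : IsCoprime (cyclotomic d ℚ) P := hirr.coprime_iff_not_dvd.2 fun hdv => by
      have := natDegree_le_of_dvd hdv hP0
      omega
    obtain ⟨u, v, huv⟩ := hcop
    have h1 := congrArg (fun R => aeval Mq R *ᵥ zq) huv
    simp only [map_add, map_mul, hCH, mul_zero, zero_add, map_one, Matrix.one_mulVec] at h1
    rw [← Matrix.mulVec_mulVec, hP, Matrix.mulVec_zero] at h1
    exact hz (funext fun j => Int.cast_eq_zero.1 (congrFun h1 j).symm)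
  have hspan := hli.span_eq_top_of_card_eq_finrank' (by simp)
  have hzero : ∀ v : Fin l → ℚ, (fun i => (c i : ℚ)) ⬝ᵥ v = 0 := by
    intro v
    have hv : v ∈ Submodule.span ℚ (Set.range fun k : Fin l => Mq ^ (k : ℕ) *ᵥ zq) := hspan ▸ Submodule.mem_top
    induction hv using Submodule.span_induction with
    | mem x hx =>
      obtain ⟨k, rfl⟩ := hx
      simp only [hpow]
      have h1 := congrArg (Int.cast : ℤ → ℚ) (h k)
      simpa [dotProduct] using h1
    | zero => simp
    | add x y _ _ hx hy => rw [dotProduct_add, hx, hy, add_zero]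
    | smul a x _ hx => rw [dotProduct_smul, hx, smul_zero]
  funext i
  have := hzero (Pi.single i 1)
  simpa using this

end Cfsg.Lib.CyclicTorus
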