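import Cfsg.Agent.Chev.CyclicTorus.Conj
import Mathlib.FieldTheory.Finite.Extension

/-! A self-centralizing cyclic subgroup of order `Φ_d(q)` when `φ(d)` is the rank. -/

set_option autoImplicit false
set_option linter.unusedSectionVars false
set_option linter.style.haveILetI false
set_option maxHeartbeats 1000000

open Cfsg.Lie

namespace Cfsg.Lib.CyclicTorus

open Cfsg.Lib.Chev Matrix

variable {D : ChevalleyDatum} {C : Cert}

section FiniteField

variable {K : Type*} [Field K] [Fintype K]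

theorem card_diag_eq (S : Struct D C) (hinj : Function.Injective (Ok.tG D K)) :
    Nat.card ↥(D.diagonalSubgroup K) = (Fintype.card K - 1) ^ D.rank := by
  classical
  rw [S.ok.diagonalSubgroup_eq, ← Nat.card_congr (MonoidHom.ofInjective hinj).toEquiv, Nat.card_fun,
    Nat.card_units, Nat.card_eq_fintype_card, Nat.card_fin]

theorem prod_pow_sub_one {r : ℕ} [Fact r.Prime] {Q : ℕ} (hQ : r ∣ Q - 1) (hQ1 : 1 ≤ Q) :
    ∀ ds : List ℕ, (∀ e ∈ ds, ¬ r ∣ e) →
      ∃ M, (ds.map fun e => Q ^ e - 1).prod = (Q - 1) ^ ds.length * M ∧ ¬ r ∣ M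
  | [], _ => ⟨1, by simp, (Fact.out : r.Prime).not_dvd_one⟩
  | e :: ds, h => by
    obtain ⟨M, hM, hrM⟩ := prod_pow_sub_one hQ hQ1 ds fun x hx => h x (List.mem_cons_of_mem _ hx)
    refine ⟨(∑ i ∈ Finset.range e, Q ^ i) * M, ?_, fun hd => ?_⟩
    · rw [List.map_cons, List.prod_cons, hM, List.length_cons, pow_succ, ← geom_sum_mul_of_one_le hQ1]
      ring
    · rcases (Fact.out : r.Prime).dvd_mul.1 hd with hd | hd
      · refine h e List.mem_cons_self ?_
        have hQr : (Q : ZMod r) = 1 := by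
          have h1 := (ZMod.natCast_eq_zero_iff (Q - 1) r).2 hQ
          rwa [Nat.cast_sub hQ1, Nat.cast_one, sub_eq_zero] at h1
        rw [← ZMod.natCast_eq_zero_iff] at hd ⊢
        simpa [hQr] using hd
      · exact hrM hd

theorem sylow_conj_diag (S : Struct D C) (hN : okNeg D = true) {Ls : List Lev} {ds : List ℕ}
    (hP : okPoincare C Ls ds = true) (hlen : ds.length = D.rank) (hinj : Function.Injective (Ok.tG D K)) {r : ℕ} [Fact r.Prime]
    (hr : r ∣ Fintype.card K - 1) (hds : ∀ e ∈ ds, ¬ r ∣ e) {x : GL D.Idx K} (hx : x ∈ D.group K)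
    (hxr : orderOf x = r) : ∃ g ∈ D.group K, g⁻¹ * x * g ∈ D.diagonalSubgroup K := by
  classical
  have hQ1 : 1 ≤ Fintype.card K := Fintype.card_pos
  have hcard := S.order_formula hN hP (d := 1) rfl (by rw [one_mul, card_diag_eq S hinj])
  obtain ⟨M, hM, hrM⟩ := prod_pow_sub_one hr hQ1 ds hds
  rw [one_mul, hM, hlen, ← card_diag_eq S hinj] at hcard
  have hrQ : ¬ r ∣ Fintype.card K := fun h => by
    have h1 := Nat.dvd_sub h hr
    rw [Nat.sub_sub_self hQ1] at h1
    exact (Fact.out : r.Prime).not_dvd_one h1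
  set G := D.group K
  let T : Subgroup ↥G := (D.diagonalSubgroup K).subgroupOf G
  have hT : Nat.card ↥T = Nat.card ↥(D.diagonalSubgroup K) :=
    Nat.card_congr (Subgroup.subgroupOfEquivOfLe S.diag_le_group).toEquiv
  have hfac : (Nat.card ↥G).factorization r = (Nat.card ↥T).factorization r := by
    rw [hcard, hT, Nat.factorization_mul (pow_ne_zero _ Fintype.card_pos.ne') (Nat.mul_ne_zero Nat.card_pos.ne'
        (by rintro rfl; exact hrM (dvd_zero r))),
      Nat.factorization_mul Nat.card_pos.ne' (by rintro rfl; exact hrM (dvd_zero r))]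
    simp [Nat.factorization_eq_zero_of_not_dvd hrM, Nat.factorization_eq_zero_of_not_dvd hrQ]
  let P₀ : Sylow r ↥T := default
  let P : Sylow r ↥G := Sylow.ofCard ((P₀ : Subgroup ↥T).map T.subtype) (by
    rw [Subgroup.card_subtype, P₀.card_eq_multiplicity, hfac])
  have hp : IsPGroup r ↥(Subgroup.zpowers (⟨x, hx⟩ : ↥G)) :=
    IsPGroup.of_card (n := 1) (by rw [Nat.card_zpowers, ← Subgroup.orderOf_coe, hxr, pow_one])
  obtain ⟨Q, hQ⟩ := hp.exists_le_sylow
  obtain ⟨k, hk⟩ := MulAction.exists_smul_eq ↥G Q P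
  refine ⟨((k⁻¹ : ↥G) : GL D.Idx K), (k⁻¹).2, ?_⟩
  have hm : k * ⟨x, hx⟩ * k⁻¹ ∈ (P : Subgroup ↥G) := by
    rw [← hk, Sylow.coe_subgroup_smul]
    exact Subgroup.smul_mem_pointwise_smul _ _ _ (hQ (Subgroup.mem_zpowers _))
  obtain ⟨z, -, hz⟩ := hm
  have h1 := z.2
  rw [Subgroup.mem_subgroupOf] at h1
  rw [show (z : ↥G) = k * ⟨x, hx⟩ * k⁻¹ from hz] at h1
  simpa using h1

end FiniteField

section Extension

variable {F K : Type*} [Field F] [Field K] [Algebra F K]

/-- Extension of scalars. -/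
noncomputable def iota (D : ChevalleyDatum) : GL D.Idx F →* GL D.Idx K :=
  Matrix.GeneralLinearGroup.map (algebraMap F K)

theorem iota_injective : Function.Injective (iota (F := F) (K := K) D) := by
  intro a b hab
  refine Units.ext (Matrix.ext fun i j => (algebraMap F K).injective ?_)
  simpa [iota, Matrix.GeneralLinearGroup.map] using congrArg (fun g : GL D.Idx K => (g : Matrix D.Idx D.Idx K) i j) hab

theorem iota_group (S : Struct D C) {g : GL D.Idx F} (hg : g ∈ D.group F) : iota (K := K) D g ∈ D.group K := by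
  have hle : D.group F ≤ (D.group K).comap (iota (K := K) D) := by
    refine (Subgroup.closure_le _).2 ?_
    rintro x ⟨r, t, hx⟩
    have hx' : (x : Matrix D.Idx D.Idx F) = D.x F r.val t := by rw [hx]; simp [ChevalleyDatum.x, r.isLt]
    have e : iota (K := K) D x = S.ok.xG r.val (algebraMap F K t) := Units.ext (by
      rw [S.ok.val_xG, ← Ok.map_x D (algebraMap F K) r.val t, ← hx']; rfl)
    show iota (K := K) D x ∈ D.group K
    rw [e]
    exact S.ok.xG_mem_group _ _
  exact hle hg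

theorem phiG_tG (σ : K →+* K) {q : ℕ} (hσ : ∀ z, σ z = z ^ q) (c : Fin D.rank → Kˣ) :
    phiG σ D (Ok.tG D K c) = Ok.tG D K (c ^ q) := by
  refine Units.ext ?_
  show Matrix.map (Ok.tG D K c : Matrix D.Idx D.Idx K) σ = _
  rw [Ok.tG_val, Ok.tG_val, Matrix.diagonal_map (map_zero σ)]
  congr 1
  funext x
  rcases x with a | s
  · simp
  · simp only [Function.comp_apply, Sum.elim_inr, hσ, ← Units.val_pow_eq_pow_val, ← Finset.prod_pow]
    congr 1
    refine Finset.prod_congr rfl fun i _ => ?_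
    rw [Pi.pow_apply, ← zpow_natCast, ← zpow_natCast (c i), ← _root_.zpow_mul, ← _root_.zpow_mul, mul_comm]

theorem mem_range_of_fixed (S : Struct D C) (hN : okNeg D = true) (σ : K →+* K) {q : ℕ}
    (hσ : ∀ z, σ z = z ^ q) (hfix : ∀ z : K, σ z = z → ∃ u : F, algebraMap F K u = z)
    (hinj : Function.Injective (Ok.tG D K)) {g : GL D.Idx K} (hg : g ∈ D.group K) (hf : phiG σ D g = g) :
    ∃ g' ∈ D.group F, iota (K := K) D g' = g := by
  obtain ⟨l, hl, d, hd, hdf, rfl⟩ := fixed_decomp σ S hN hg hf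
  have h1 : ratGroup D σ ≤ (D.group F).map (iota (K := K) D) := by
    refine (Subgroup.closure_le _).2 ?_
    rintro x ⟨s, t, ht, hx⟩
    obtain ⟨u, rfl⟩ := hfix t ht
    refine ⟨S.ok.xG s u, S.ok.xG_mem_group s u, Units.ext ?_⟩
    rw [hx, ← Ok.map_x D (algebraMap F K) s u, ← S.ok.val_xG s u]
    rfl
  have h2 : d ∈ (D.group F).map (iota (K := K) D) := by
    rw [S.ok.diagonalSubgroup_eq] at hd
    obtain ⟨c, rfl⟩ := hd
    rw [phiG_tG σ hσ] at hdf
    have hc : ∀ i, σ ((c i : Kˣ) : K) = c i := fun i => by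
      rw [hσ, ← Units.val_pow_eq_pow_val]
      exact congrArg Units.val (congrFun (hinj hdf) i)
    choose u hu using fun i => hfix _ (hc i)
    have hu0 : ∀ i, u i ≠ 0 := fun i h => (c i).ne_zero (by rw [← hu i, h, map_zero])
    refine ⟨Ok.tG D F (fun i => Units.mk0 (u i) (hu0 i)), ?_, Units.ext ?_⟩
    · exact S.diag_le_group (by rw [S.ok.diagonalSubgroup_eq]; exact ⟨_, rfl⟩)
    · show Matrix.map (Ok.tG D F _ : Matrix D.Idx D.Idx F) (algebraMap F K) = _
      rw [Ok.tG_val, Ok.tG_val, Matrix.diagonal_map (map_zero _)]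
      congr 1
      funext x
      rcases x with a | s
      · simp
      · simp only [Function.comp_apply, Sum.elim_inr, Units.coe_prod, map_prod, Units.val_zpow_eq_zpow_val,
          map_zpow₀, Units.val_mk0, hu]
  obtain ⟨g', hg', e⟩ := mul_mem (h1 hl) h2
  exact ⟨g', hg', e⟩

end Extension

theorem exists_selfcent (S : Struct D C) (hN : okNeg D = true) {a : Fin D.rank → Fin D.rank → ℤ} (hU : Uni D a)
    {Minv : List (List ℤ)} (hMinv : okInv D Minv 1 = true) {Ls : List Lev} {ds : List ℕ}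
    (hP : okPoincare C Ls ds = true) (F : Type*) [Field F] [Fintype F] {d : ℕ} (hd : d.totient = D.rank)
    (hd0 : 0 < d) (hlen : ds.length = D.rank) (hdmem : ∃ e ∈ ds, d ∣ e) {r : ℕ} [Fact r.Prime]
    (hprim : IsPrimitiveRoot ((Fintype.card F : ℤ) : ZMod r) d) (hW : ¬ r ∣ Nat.card ↥S.WG)
    (hds : ∀ e ∈ ds, ¬ r ∣ e)
    (hsq : ∀ s : ℕ, s.Prime → (s : ℤ) ∣ (Polynomial.cyclotomic d ℤ).eval (Fintype.card F : ℤ) →
      ∃ q' : ℤ, (q' : ZMod s) = ((Fintype.card F : ℤ) : ZMod s) ∧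
        ¬ (s : ℤ) ^ 2 ∣ (Polynomial.cyclotomic d ℤ).eval q') :
    ∃ H : Subgroup ↥(D.group F), IsCyclic ↥H ∧
      (Nat.card ↥H : ℤ) = (Polynomial.cyclotomic d ℤ).eval (Fintype.card F : ℤ) ∧
      Subgroup.centralizer (H : Set ↥(D.group F)) = H := by
  classical
  obtain ⟨p, hp⟩ := CharP.exists F
  haveI : Fact p.Prime := ⟨CharP.char_is_prime F p⟩
  haveI : NeZero d := ⟨hd0.ne'⟩
  let K := FiniteField.Extension F p d
  haveI : Fintype K := Fintype.ofFinite K
  set q := Fintype.card F with hq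
  have hq2 : 1 < q := Fintype.one_lt_card
  have hK : Fintype.card K = q ^ d := by
    rw [← Nat.card_eq_fintype_card, FiniteField.natCard_extension, Nat.card_eq_fintype_card]
  set N := Fintype.card K - 1 with hNdef
  have hN1 : 0 < N := by have := Fintype.one_lt_card (α := K); omega
  haveI : NeZero N := ⟨hN1.ne'⟩
  have hqd : (q : ZMod r) ^ d = 1 := by simpa using hprim.pow_eq_one
  have hrN : r ∣ N := by
    rw [← ZMod.natCast_eq_zero_iff, hNdef, hK, Nat.cast_sub (Nat.one_le_pow _ _ (by omega))]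
    simp [hqd]
  have hrq : ¬ r ∣ q := fun h => by
    rw [← ZMod.natCast_eq_zero_iff] at h
    rw [h, zero_pow hd0.ne'] at hqd
    exact zero_ne_one hqd
  have hinj : Function.Injective (Ok.tG D K) := S.tG_injective hMinv (Nat.coprime_one_left _)
  have hinjF : Function.Injective (Ok.tG D F) := S.tG_injective hMinv (Nat.coprime_one_left _)
  -- an element of order `r`
  have hrG : r ∣ Nat.card ↥(D.group F) := by
    have hcard := S.order_formula (F := F) hN hP (d := 1) rfl (by rw [one_mul, card_diag_eq S hinjF])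
    rw [one_mul] at hcard
    rw [hcard]
    refine Dvd.dvd.mul_left ?_ _
    obtain ⟨e, he, hde⟩ := hdmem
    refine dvd_trans ?_ (List.dvd_prod (List.mem_map.2 ⟨e, he, rfl⟩))
    refine dvd_trans ?_ (Nat.pow_sub_one_dvd_pow_sub_one _ hde)
    rwa [hNdef, hK] at hrN
  obtain ⟨x₀, hx₀⟩ := exists_prime_orderOf_dvd_card' r hrG
  -- Frobenius
  let σ : K →+* K := (FiniteField.frobeniusAlgHom F K).toRingHom
  have hσ : ∀ z, σ z = z ^ q := fun z => by simp [σ, hq]
  have hfix : ∀ z : K, σ z = z → ∃ u : F, algebraMap F K u = z := by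
    intro z hz
    by_contra hno
    push Not at hno
    let P : Polynomial K := Polynomial.X ^ q - Polynomial.X
    have hsub : insert z (Finset.univ.image (algebraMap F K)) ⊆ P.roots.toFinset := by
      intro u hu
      rw [Multiset.mem_toFinset, Polynomial.mem_roots (FiniteField.X_pow_card_sub_X_ne_zero K hq2),
        Polynomial.IsRoot.def]
      rcases Finset.mem_insert.1 hu with rfl | hu
      · simp [P, ← hσ, hz]
      · obtain ⟨a, -, rfl⟩ := Finset.mem_image.1 hu
        simp [P, ← map_pow, hq, FiniteField.pow_card]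
    have h1 := (Finset.card_le_card hsub).trans (P.roots.toFinset_card_le.trans (Polynomial.card_roots' P))
    rw [Finset.card_insert_of_notMem (by
        rw [Finset.mem_image]; rintro ⟨a, -, e⟩; exact hno a e),
      Finset.card_image_of_injective _ (algebraMap F K).injective, Finset.card_univ,
      FiniteField.X_pow_card_sub_X_natDegree_eq K hq2] at h1
    omega
  set x := iota (K := K) D (x₀ : GL D.Idx F) with hxdef
  have hxG : x ∈ D.group K := iota_group S x₀.2
  have hxr : orderOf x = r := by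
    rw [hxdef, orderOf_injective _ iota_injective, Subgroup.orderOf_coe, hx₀]
  have hxfix : ∀ g : GL D.Idx F, phiG σ D (iota (K := K) D g) = iota (K := K) D g := fun g => by
    rw [phiG_eq_self]
    intro i j
    simp [iota, Matrix.GeneralLinearGroup.map, σ, ← map_pow, FiniteField.pow_card]
  obtain ⟨g, hg, htd⟩ := sylow_conj_diag S hN hP hlen hinj hrN hds hxG hxr
  -- exponents
  obtain ⟨ζ, hgen⟩ := IsCyclic.exists_generator (α := Kˣ)
  have hζ : orderOf ζ = N := by
    rw [orderOf_eq_card_of_forall_mem_zpowers hgen, Nat.card_units, Nat.card_eq_fintype_card]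
  rw [S.ok.diagonalSubgroup_eq] at htd
  obtain ⟨c, hc⟩ := htd
  obtain ⟨Y, rfl⟩ := exists_exponents hgen c
  change te D ζ Y = g⁻¹ * x * g at hc
  have hxY : x = g * te D ζ Y * g⁻¹ := by rw [hc]; group
  obtain ⟨k, hk⟩ := hrN
  have hk0 : k ≠ 0 := fun h => hN1.ne' (by rw [hk, h, mul_zero])
  have hYdvd : ∀ i, (k : ℤ) ∣ Y i := by
    intro i
    have h1 : te D ζ Y ^ r = 1 := by
      rw [hc, show (g⁻¹ * x * g) ^ r = g⁻¹ * x ^ r * g by
        rw [show g⁻¹ * x * g = g⁻¹ * x * g⁻¹⁻¹ by rw [inv_inv], conj_pow, inv_inv],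
        ← hxr, pow_orderOf_eq_one, mul_one, inv_mul_cancel]
    rw [te, ← map_pow, ← map_one (Ok.tG D K)] at h1
    have h2 := congrFun (hinj h1) i
    simp only [Pi.pow_apply, zc, Pi.one_apply] at h2
    rw [← zpow_natCast, ← _root_.zpow_mul, ← orderOf_dvd_iff_zpow_eq_one, hζ, hk] at h2
    push_cast at h2
    rw [mul_comm (Y i)] at h2
    exact (mul_dvd_mul_iff_left (Int.natCast_ne_zero.2 (Fact.out : r.Prime).ne_zero)).1 h2
  choose y hy using hYdvd
  have hkmod : ∀ u v : Fin D.rank → ℤ, (∀ i, (((k : ℤ) * u i : ℤ) : ZMod N) = (((k : ℤ) * v i : ℤ) : ZMod N)) →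
      ∀ i, (u i : ZMod r) = (v i : ZMod r) := by
    intro u v h i
    have h1 := h i
    rw [ZMod.intCast_eq_intCast_iff_dvd_sub, ← mul_sub, hk] at h1
    rw [ZMod.intCast_eq_intCast_iff_dvd_sub]
    push_cast at h1
    rw [mul_comm (r : ℤ)] at h1
    exact (mul_dvd_mul_iff_left (Int.natCast_ne_zero.2 hk0)).1 h1
  have hy0 : ∃ i, (y i : ZMod r) ≠ 0 := by
    by_contra hno
    push Not at hno
    have h1 : te D ζ Y = te D ζ (0 : Fin D.rank → ℤ) := te_congr ζ hζ fun i => by
      rw [hy i, Pi.zero_apply, Int.cast_zero, ZMod.intCast_zmod_eq_zero_iff_dvd, hk]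
      push_cast
      rw [mul_comm (r : ℤ)]
      exact mul_dvd_mul_left _ ((ZMod.intCast_zmod_eq_zero_iff_dvd _ _).1 (hno i))
    have h0 : te D ζ (0 : Fin D.rank → ℤ) = (1 : GL D.Idx K) := by
      rw [te, show zc ζ (0 : Fin D.rank → ℤ) = 1 from funext fun i => zpow_zero ζ, map_one]
    have h2 : x = 1 := by rw [hxY, h1, h0, mul_one, mul_inv_cancel]
    rw [h2, orderOf_one] at hxr
    exact (Fact.out : r.Prime).one_lt.ne hxr
  -- the twisting element
  set n := g⁻¹ * phiG σ D g with hn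
  have hnG : n ∈ D.group K := mul_mem (inv_mem hg) (phiG_group σ S hg)
  have hte_pow : ∀ z : Fin D.rank → ℤ, phiG σ D (te D ζ z) = te D ζ ((q : ℤ) • z) := by
    intro z
    rw [te, te, phiG_tG σ hσ]
    congr 1
    funext i
    simp only [Pi.pow_apply, zc, Pi.smul_apply, smul_eq_mul]
    rw [← zpow_natCast, ← _root_.zpow_mul, mul_comm]
  have hconjn : ∀ z : Fin D.rank → ℤ,
      phiG σ D (g * te D ζ z * g⁻¹) = g * (n * te D ζ ((q : ℤ) • z) * n⁻¹) * g⁻¹ := by
    intro z
    rw [map_mul, map_mul, map_inv, hte_pow, hn]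
    group
  have hnY : n * te D ζ ((q : ℤ) • Y) * n⁻¹ = te D ζ Y := by
    have h1 := hxfix (x₀ : GL D.Idx F)
    rw [← hxdef, hxY, hconjn] at h1
    exact mul_left_cancel (mul_right_cancel h1)
  obtain ⟨L, v, d₁, u, hv, hd₁, hu, en, eL, ecu, ecv⟩ := conj_te S hN ζ hnG hnY
  let w' : ↥S.WG := ⟨S.wpL L, S.wpL_mem_WG L⟩
  let w : ↥S.WG := w'⁻¹
  have hw' : matW S hU w' = matL D L := matW_eq S hU w' rfl
  have heig0 : ∀ i, ((matL D L *ᵥ ((q : ℤ) • y)) i : ZMod r) = (y i : ZMod r) := by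
    refine hkmod _ _ fun i => ?_
    have h1 := (te_eq_iff ζ hζ hinj).1 eL i
    rw [← hy i]
    rw [show Y = (k : ℤ) • y from funext hy, smul_comm, Matrix.mulVec_smul] at h1
    simpa [hy i] using h1
  have hinvmul : ∀ z : Fin D.rank → ℤ, matW S hU w *ᵥ (matL D L *ᵥ z) = z := fun z => by
    rw [Matrix.mulVec_mulVec, ← hw', ← map_mul, inv_mul_cancel, map_one, Matrix.one_mulVec]
  have hmulinv : ∀ z : Fin D.rank → ℤ, matL D L *ᵥ (matW S hU w *ᵥ z) = z := fun z => by
    rw [Matrix.mulVec_mulVec, ← hw', ← map_mul, mul_inv_cancel, map_one, Matrix.one_mulVec]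
  have heig : ∀ i, ((matW S hU w *ᵥ y) i : ZMod r) = ((q : ℤ) : ZMod r) * (y i : ZMod r) := by
    intro i
    have h1 := congrFun (red_mulVec r (matW S hU w) (matL D L *ᵥ ((q : ℤ) • y))) i
    rw [hinvmul, funext heig0, congrFun (red_mulVec r (matW S hU w) y) i] at h1
    rw [h1]
    simp
  obtain ⟨hchar, hreg⟩ := regular_of_eigen S hU hW hd hd0 hprim w hy0 heig
  have hregY : ∀ s : Fin D.nroots, ζ ^ chiZ D s Y ≠ 1 := by
    intro s h
    rw [← orderOf_dvd_iff_zpow_eq_one, hζ, hk, show Y = (k : ℤ) • y from funext hy] at h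
    have e : chiZ D s ((k : ℤ) • y) = (k : ℤ) * chiZ D s y := by
      simp [chiZ, Finset.mul_sum, mul_left_comm]
    rw [e] at h
    push_cast at h
    rw [mul_comm (r : ℤ)] at h
    exact hreg s ((ZMod.intCast_zmod_eq_zero_iff_dvd _ _).2
      ((mul_dvd_mul_iff_left (Int.natCast_ne_zero.2 hk0)).1 h))
  have hregqY : ∀ s : Fin D.nroots, ζ ^ chiZ D s ((q : ℤ) • Y) ≠ 1 := by
    intro s h
    rw [show chiZ D s ((q : ℤ) • Y) = (q : ℤ) * chiZ D s Y by simp [chiZ, Finset.mul_sum, mul_left_comm]] at h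
    rw [← orderOf_dvd_iff_zpow_eq_one, hζ] at h
    refine hregY s ?_
    rw [← orderOf_dvd_iff_zpow_eq_one, hζ]
    refine (Int.isCoprime_iff_gcd_eq_one.2 ?_).dvd_of_dvd_mul_left h
    rw [Int.gcd_natCast_natCast, ← Nat.coprime_iff_gcd_eq_one, hNdef, hK]
    refine Nat.Coprime.symm (Nat.Coprime.coprime_dvd_left (dvd_pow_self q hd0.ne') ?_)
    exact (Nat.coprime_self_sub_right (Nat.one_le_pow _ _ (by omega))).2 (Nat.coprime_one_right _)
  have hv1 : v = 1 := eq_one_of_commute_te S ζ Y hregY hv ecv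
  have hu1 : u = 1 := eq_one_of_commute_te S ζ _ hregqY (S.UPsi_le _ hu) ecu
  rw [hv1, hu1, one_mul, mul_one] at en
  have hnconj : ∀ z : Fin D.rank → ℤ, n * te D ζ z * n⁻¹ = te D ζ (matL D L *ᵥ z) := by
    intro z
    rw [en, show d₁ * S.nL K L * te D ζ z * (d₁ * S.nL K L)⁻¹ = d₁ * (S.nL K L * te D ζ z * (S.nL K L)⁻¹) * d₁⁻¹
      by group, nL_conj_te, diag_comm S hd₁ (te_mem S ζ _), mul_inv_cancel_right]
  -- centralizer of `x` in the big group
  have hcent : ∀ z ∈ D.group K, z * x = x * z → ∃ e : Fin D.rank → ℤ, z = g * te D ζ e * g⁻¹ := by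
    intro z hz hzx
    have hm : g⁻¹ * z * g * te D ζ Y * (g⁻¹ * z * g)⁻¹ = te D ζ Y := by
      rw [hc, show g⁻¹ * z * g * (g⁻¹ * x * g) * (g⁻¹ * z * g)⁻¹ = g⁻¹ * (z * x) * z⁻¹ * g by group, hzx]
      group
    obtain ⟨L₁, v', d', u', hv', hd', hu', ez, eL', ecu', ecv'⟩ :=
      conj_te S hN ζ (mul_mem (mul_mem (inv_mem hg) hz) hg) hm
    rw [eq_one_of_commute_te S ζ Y hregY hv' ecv', one_mul,
      eq_one_of_commute_te S ζ Y hregY (S.UPsi_le _ hu') ecu', mul_one] at ez
    have hfixw : ∀ i, ((matW S hU ⟨S.wpL L₁, S.wpL_mem_WG L₁⟩ *ᵥ y) i : ZMod r) = y i := by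
      rw [matW_eq S hU (⟨S.wpL L₁, S.wpL_mem_WG L₁⟩ : ↥S.WG) rfl]
      refine hkmod _ _ fun i => ?_
      have h1 := (te_eq_iff ζ hζ hinj).1 eL' i
      rw [← hy i]
      rw [show Y = (k : ℤ) • y from funext hy, Matrix.mulVec_smul] at h1
      simpa [hy i] using h1
    have hw1 := congrArg Subtype.val (eq_one_of_fix_mod S hU hW hreg _ hfixw)
    have hdiag : g⁻¹ * z * g ∈ D.diagonalSubgroup K := by
      rw [ez]; exact mul_mem hd' (S.nL_mem_diag _ L₁ rfl hw1)
    rw [S.ok.diagonalSubgroup_eq] at hdiag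
    obtain ⟨c', hc'⟩ := hdiag
    obtain ⟨e, rfl⟩ := exists_exponents hgen c'
    refine ⟨e, ?_⟩
    change te D ζ e = _ at hc'
    rw [hc']; group
  -- the fixed part of the torus
  set A : Matrix (Fin D.rank) (Fin D.rank) ℤ := Matrix.scalar (Fin D.rank) (q : ℤ) - matW S hU w with hA
  have hdet : ∀ b : ℤ, (Matrix.scalar (Fin D.rank) b - matW S hU w).det =
      (Polynomial.cyclotomic d ℤ).eval b := fun b => by rw [← hchar, Matrix.eval_charpoly]
  have hker : ∀ e : Fin D.rank → ℤ, phiG σ D (g * te D ζ e * g⁻¹) = g * te D ζ e * g⁻¹ ↔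
      (fun i => (e i : ZMod N)) ∈ kerN N A := by
    intro e
    rw [hconjn, hnconj, mul_left_inj, mul_right_inj, te_eq_iff ζ hζ hinj, mem_kerN, red_mulVec]
    have e1 : ∀ i, (A *ᵥ e) i = (q : ℤ) * e i - (matW S hU w *ᵥ e) i := fun i => by
      simp [hA, Matrix.sub_mulVec, Matrix.scalar_apply, Matrix.mulVec_diagonal]
    constructor
    · intro h
      funext i
      have h1 := congrFun (red_mulVec N (matW S hU w) (matL D L *ᵥ ((q : ℤ) • e))) i
      rw [hinvmul, funext h, congrFun (red_mulVec N (matW S hU w) e) i] at h1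
      rw [e1 i, Int.cast_sub, Pi.zero_apply, sub_eq_zero, h1]
      simp
    · intro h i
      have h2 : (fun i => ((((q : ℤ) • e) i : ℤ) : ZMod N)) = fun i => ((matW S hU w *ᵥ e) i : ZMod N) := by
        funext j
        have h3 := congrFun h j
        rw [e1 j, Int.cast_sub, Pi.zero_apply, sub_eq_zero] at h3
        simpa using h3
      have h1 := congrFun (red_mulVec N (matL D L) ((q : ℤ) • e)) i
      rw [h2, congrFun (red_mulVec N (matL D L) (matW S hU w *ᵥ e)) i, hmulinv] at h1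
      exact h1.symm
  -- the subgroup
  let H : Subgroup ↥(D.group F) := Subgroup.centralizer {x₀}
  have hval : ∀ b : ↥(kerN N A), ∃ h : ↥H,
      iota (K := K) D ((h : ↥(D.group F)) : GL D.Idx F) = g * te D ζ (fun i => ((b.1 i).val : ℤ)) * g⁻¹ := by
    intro b
    set e : Fin D.rank → ℤ := fun i => ((b.1 i).val : ℤ)
    have he : phiG σ D (g * te D ζ e * g⁻¹) = g * te D ζ e * g⁻¹ := (hker e).2 (by
      convert b.2 using 1
      funext i
      simp [e])
    obtain ⟨h, hh, heq⟩ := mem_range_of_fixed S hN σ hσ hfix hinj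
      (mul_mem (mul_mem hg (S.diag_le_group (te_mem S ζ e))) (inv_mem hg)) he
    refine ⟨⟨⟨h, hh⟩, Subgroup.mem_centralizer_singleton_iff.2 (Subtype.ext (iota_injective (K := K) ?_))⟩, heq⟩
    simp only [Subgroup.coe_mul, map_mul, heq]
    rw [← hxdef, hxY]
    rw [show g * te D ζ e * g⁻¹ * (g * te D ζ Y * g⁻¹) = g * (te D ζ e * te D ζ Y) * g⁻¹ by group,
      diag_comm S (te_mem S ζ e) (te_mem S ζ Y)]
    group
  choose ψ hψ using hval
  have hψmul : ∀ b b', ψ (b + b') = ψ b * ψ b' := fun b b' => by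
    refine Subtype.ext (Subtype.ext (iota_injective (K := K) ?_))
    simp only [Subgroup.coe_mul, map_mul, hψ]
    rw [te_congr ζ hζ (z := (fun i => ((b.1 i).val : ℤ)) + fun i => ((b'.1 i).val : ℤ)) (fun i => by simp),
      te_add]
    group
  have hψinj : Function.Injective ψ := fun b b' hbb => by
    have h1 := congrArg (fun h : ↥H => iota (K := K) D ((h : ↥(D.group F)) : GL D.Idx F)) hbb
    simp only [hψ, mul_left_inj, mul_right_inj, te_eq_iff ζ hζ hinj] at h1
    refine Subtype.ext (funext fun i => ?_)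
    simpa using h1 i
  have hψsurj : Function.Surjective ψ := by
    intro h
    have hm := Subgroup.mem_centralizer_singleton_iff.1 h.2
    have hm' : iota (K := K) D ((h : ↥(D.group F)) : GL D.Idx F) * x = x * iota (K := K) D ((h : ↥(D.group F)) : GL D.Idx F) := by
      have := congrArg (fun z : ↥(D.group F) => iota (K := K) D (z : GL D.Idx F)) hm
      simpa [hxdef] using this
    obtain ⟨e, he⟩ := hcent _ (iota_group S (h : ↥(D.group F)).2) hm'
    have hbk := (hker e).1 (he ▸ hxfix _)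
    refine ⟨⟨_, hbk⟩, Subtype.ext (Subtype.ext (iota_injective (K := K) ?_))⟩
    rw [hψ, he, te_congr ζ hζ (z := e) (fun i => by simp)]
  let ψe : Multiplicative ↥(kerN N A) ≃* ↥H :=
    MulEquiv.ofBijective (MonoidHom.mk' (fun b => ψ b.toAdd) fun b b' => hψmul _ _)
      ⟨fun b b' h => hψinj h, hψsurj⟩
  have hpos : 0 < (Polynomial.cyclotomic d ℤ).eval (q : ℤ) :=
    Polynomial.cyclotomic_pos' d (x := (q : ℤ)) (by exact_mod_cast hq2)
  have hdvd : (A.det.natAbs : ℕ) ∣ N := by
    rw [hA, hdet, ← Int.natCast_dvd_natCast, Int.natAbs_of_nonneg hpos.le, hNdef, hK,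
      Nat.cast_sub (Nat.one_le_pow _ _ (by omega))]
    have := Polynomial.eval_dvd (x := (q : ℤ)) (Polynomial.cyclotomic.dvd_X_pow_sub_one d ℤ)
    simpa using this
  have hcard := card_kerN (N := N) A (by rw [hA, hdet]; exact hpos.ne') hdvd
  haveI hcyc : IsAddCyclic ↥(kerN N A) := by
    refine isAddCyclic_of_prime_torsion fun s hs => ?_
    haveI := Fact.mk hs
    by_cases hdiv : (s : ℤ) ∣ (Polynomial.cyclotomic d ℤ).eval (q : ℤ)
    · obtain ⟨q', hq', hnd⟩ := hsq s hs hdiv
      refine card_torsion_kerN_le A (Matrix.scalar (Fin D.rank) q' - matW S hU w) (fun i j => ?_) (by rwa [hdet])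
      rw [hA, Matrix.sub_apply, Matrix.sub_apply, Matrix.scalar_apply, Matrix.scalar_apply, Matrix.diagonal_apply,
        Matrix.diagonal_apply, Int.cast_sub, Int.cast_sub]
      split_ifs <;> simp [hq']
    · refine card_torsion_kerN_le A A (fun i j => rfl) fun h => hdiv ?_
      rw [hA, hdet] at h
      exact dvd_trans (dvd_pow_self _ two_ne_zero) h
  have hHc : IsCyclic ↥H := isCyclic_of_surjective ψe.toMonoidHom ψe.surjective
  refine ⟨H, hHc, ?_, ?_⟩
  · rw [← Nat.card_congr ψe.toEquiv, Nat.card_congr Multiplicative.toAdd, hcard, hA, hdet,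
      Int.natAbs_of_nonneg hpos.le]
  · refine le_antisymm ?_ ?_
    · refine Subgroup.centralizer_le ?_
      intro z hz
      rw [Set.mem_singleton_iff.1 hz]
      exact Subgroup.mem_centralizer_singleton_iff.2 rfl
    · intro a ha
      rw [Subgroup.mem_centralizer_iff]
      intro b hb
      haveI := hHc.isMulCommutative
      exact congrArg Subtype.val
        (mul_comm' (⟨b, hb⟩ : ↥H) ⟨a, ha⟩)

end Cfsg.Lib.CyclicTorus
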