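import Cfsg.Agent.Chev.CyclicTorus.Lattice
import Cfsg.Agent.Chev.TorusInj
import Cfsg.Agent.Chev.Poincare
import Cfsg.Agent.Chev.Bruhat

/-! The Weyl group on the lattice of torus exponents; regularity of eigenvectors modulo a prime. -/

set_option autoImplicit false
set_option linter.unusedSectionVars false
set_option linter.style.haveILetI false

open Cfsg.Lie

namespace Cfsg.Lib.CyclicTorus

open Cfsg.Lib.Chev Matrix

variable {D : ChevalleyDatum} {C : Cert}

/-- The value of a root on an exponent vector. -/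
def chiZ (D : ChevalleyDatum) (s : ℕ) (y : Fin D.rank → ℤ) : ℤ := ∑ j : Fin D.rank, D.cartan j s * y j

/-- The fundamental reflection on exponent vectors. -/
def Rm (D : ChevalleyDatum) (i : Fin D.rank) : Matrix (Fin D.rank) (Fin D.rank) ℤ :=
  1 - Matrix.of fun (a b : Fin D.rank) => if a = i then D.cartan b (D.simple i) else 0

theorem Rm_mulVec (i : Fin D.rank) (y : Fin D.rank → ℤ) :
    Rm D i *ᵥ y = y - Pi.single i (chiZ D (D.simple i) y) := by
  rw [Rm, Matrix.sub_mulVec, Matrix.one_mulVec]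
  congr 1
  funext a
  by_cases h : a = i
  · subst h; simp [Matrix.mulVec, dotProduct, chiZ]
  · simp [Matrix.mulVec, dotProduct, h, Pi.single_eq_of_ne h]

theorem chiZ_add (s : ℕ) (y z : Fin D.rank → ℤ) : chiZ D s (y + z) = chiZ D s y + chiZ D s z := by
  simp [chiZ, mul_add, Finset.sum_add_distrib]

theorem chiZ_single (s : ℕ) (i : Fin D.rank) (c : ℤ) : chiZ D s (Pi.single i c) = D.cartan i s * c := by
  unfold chiZ
  rw [Finset.sum_eq_single i (fun b _ hb => by simp [Pi.single_eq_of_ne hb]) (by simp), Pi.single_eq_same]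

theorem chiZ_congr {r : ℕ} {s : ℕ} {y z : Fin D.rank → ℤ} (h : ∀ i, (y i : ZMod r) = (z i : ZMod r)) :
    (chiZ D s y : ZMod r) = (chiZ D s z : ZMod r) := by
  simp [chiZ, h]

/-- A word of reflections on exponent vectors. -/
def matL (D : ChevalleyDatum) (L : List (Fin D.rank)) : Matrix (Fin D.rank) (Fin D.rank) ℤ :=
  (L.map (Rm D)).prod

theorem chiZ_wp (S : Struct D C) (i : Fin D.rank) (s : Fin D.nroots) (y : Fin D.rank → ℤ) :
    chiZ D (S.wp i s) (Rm D i *ᵥ y) = chiZ D s y := by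
  have hcart : ∀ j : Fin D.rank, D.cartan j (C.w i s) =
      D.cartan j s - D.cartan i s * D.cartan j (D.simple i) := fun j => by
    rw [← S.ok.cart_eq j.isLt (S.ok.w_lt i.isLt s.isLt), ← S.ok.cart_eq j.isLt s.isLt,
      ← S.ok.cart_eq i.isLt s.isLt, ← S.ok.sr_eq i.isLt, ← S.ok.cart_eq j.isLt (S.ok.sr_lt i.isLt)]
    exact (S.ok.refl_spec i.isLt s.isLt).2.2.2.2.2.2.2 j j.isLt
  have hneg : D.cartan i (C.w i s) = -D.cartan i s := by
    rw [← S.ok.cart_eq i.isLt (S.ok.w_lt i.isLt s.isLt), ← S.ok.cart_eq i.isLt s.isLt]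
    exact (S.ok.refl_spec i.isLt s.isLt).2.2.2.1
  have h1 : chiZ D (C.w i s) y = chiZ D s y - D.cartan i s * chiZ D (D.simple i) y := by
    simp only [chiZ, hcart, sub_mul, Finset.sum_sub_distrib, Finset.mul_sum, mul_assoc]
  rw [S.wp_val, Rm_mulVec, sub_eq_add_neg, chiZ_add, ← Pi.single_neg, chiZ_single, h1, hneg]
  ring

theorem chiZ_wpL (S : Struct D C) : ∀ (L : List (Fin D.rank)) (s : Fin D.nroots) (y : Fin D.rank → ℤ),
    chiZ D (S.wpL L s) (matL D L *ᵥ y) = chiZ D s y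
  | [], s, y => by simp [Struct.wpL, matL]
  | i :: L, s, y => by
    have e1 : S.wpL (i :: L) = S.wp i * S.wpL L := by simp [Struct.wpL]
    have e2 : matL D (i :: L) = Rm D i * matL D L := by simp [matL]
    rw [e1, e2, Equiv.Perm.mul_apply, ← Matrix.mulVec_mulVec, chiZ_wp, chiZ_wpL S L]

/-- A scaled inverse of the Cartan matrix in which positive roots have non-negative coordinates. -/
structure Uni (D : ChevalleyDatum) (a : Fin D.rank → Fin D.rank → ℤ) : Prop where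
  inv : ∃ d : ℤ, 0 < d ∧ ∀ i j : Fin D.rank,
    ∑ s : Fin D.rank, a i s * D.cartan j (D.simple s) = if j = i then d else 0
  pos : ∀ r < D.nroots, D.nroots / 2 ≤ r → ∀ j, 0 ≤ ∑ i : Fin D.rank, a i j * D.cartan i r

/-- Certificate for `Uni`. -/
def okUni (D : ChevalleyDatum) (M : List (List ℤ)) (d : ℕ) : Bool :=
  decide (0 < d) && okInv D M d && (List.range D.nroots).all fun r => decide (r < D.nroots / 2) ||
    (List.range D.rank).all fun j =>
      decide (0 ≤ ((List.range D.rank).map fun i => (M.getD i []).getD j 0 * D.cartan i r).sum)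

theorem exists_uni {M : List (List ℤ)} {d : ℕ} (h : okUni D M d = true) : ∃ a, Uni D a := by
  simp only [okUni, okInv, Bool.and_eq_true, List.all_eq_true, List.mem_range, decide_eq_true_eq,
    Bool.or_eq_true] at h
  refine ⟨fun i s => (M.getD i []).getD s 0, ⟨(d : ℤ), Int.natCast_pos.2 h.1.1, fun i j => ?_⟩, fun r hr hrp j => ?_⟩
  · have h1 := h.1.2 i i.isLt j j.isLt
    rw [← List.map_coe_finRange_eq_range, List.map_map, ← List.ofFn_eq_map, List.sum_ofFn] at h1
    simp only [Fin.val_inj, Function.comp_apply] at h1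
    exact h1
  · rcases h.2 r hr with h1 | h1
    · omega
    · have h2 := h1 j j.isLt
      rw [← List.map_coe_finRange_eq_range, List.map_map, ← List.ofFn_eq_map, List.sum_ofFn] at h2
      simpa using h2

variable {a : Fin D.rank → Fin D.rank → ℤ}

theorem Uni.coord (hU : Uni D a) : ∃ d : ℤ, 0 < d ∧ ∀ (y : Fin D.rank → ℤ) (i : Fin D.rank),
    d * y i = ∑ s : Fin D.rank, a i s * chiZ D (D.simple s) y := by
  obtain ⟨d, hd, hinv⟩ := hU.inv
  refine ⟨d, hd, fun y i => ?_⟩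
  simp only [chiZ, Finset.mul_sum]
  rw [Finset.sum_comm]
  simp only [← mul_assoc, ← Finset.sum_mul, hinv]
  simp

theorem Uni.chiZ_eq (hU : Uni D a) : ∃ d : ℤ, 0 < d ∧ ∀ (r : ℕ) (y : Fin D.rank → ℤ),
    d * chiZ D r y = ∑ j, (∑ i : Fin D.rank, a i j * D.cartan i r) * chiZ D (D.simple j) y := by
  obtain ⟨d, hd, hco⟩ := hU.coord
  refine ⟨d, hd, fun r y => ?_⟩
  conv_lhs => rw [chiZ, Finset.mul_sum]
  simp only [Finset.sum_mul]
  rw [Finset.sum_comm]
  refine Finset.sum_congr rfl fun i _ => ?_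
  rw [mul_left_comm, hco, Finset.mul_sum]
  refine Finset.sum_congr rfl fun j _ => ?_
  ring

theorem Uni.ext (S : Struct D C) (hU : Uni D a) {y z : Fin D.rank → ℤ}
    (h : ∀ s : Fin D.nroots, chiZ D s y = chiZ D s z) : y = z := by
  funext i
  obtain ⟨d, hd, hco⟩ := hU.coord
  refine mul_left_cancel₀ hd.ne' ?_
  rw [hco y i, hco z i]
  refine Finset.sum_congr rfl fun s _ => ?_
  have := h ⟨D.simple s, S.ok.sr_eq s.isLt ▸ S.ok.sr_lt s.isLt⟩
  rw [this]

theorem matL_congr (S : Struct D C) (hU : Uni D a) {L L' : List (Fin D.rank)} (h : S.wpL L = S.wpL L') :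
    matL D L = matL D L' := by
  refine Matrix.ext_of_mulVec_single fun j => hU.ext S fun s => ?_
  obtain ⟨t, rfl⟩ := (S.wpL L).surjective s
  rw [chiZ_wpL S L t]
  rw [h, chiZ_wpL S L' t]

/-- The representation of the Weyl group on exponent vectors. -/
noncomputable def matW (S : Struct D C) (hU : Uni D a) : ↥S.WG →* Matrix (Fin D.rank) (Fin D.rank) ℤ where
  toFun w := matL D (S.exists_wpL w.2).choose
  map_one' := by
    have h := (S.exists_wpL (one_mem S.WG)).choose_spec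
    rw [matL_congr S hU (L' := []) (h.symm.trans (by simp [Struct.wpL]))]
    simp [matL]
  map_mul' u v := by
    have h := (S.exists_wpL (mul_mem u.2 v.2)).choose_spec
    have hu := (S.exists_wpL u.2).choose_spec
    have hv := (S.exists_wpL v.2).choose_spec
    rw [← show matL D ((S.exists_wpL u.2).choose ++ (S.exists_wpL v.2).choose) =
      matL D (S.exists_wpL u.2).choose * matL D (S.exists_wpL v.2).choose by simp [matL]]
    refine matL_congr S hU (h.symm.trans ?_)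
    rw [show S.wpL ((S.exists_wpL u.2).choose ++ (S.exists_wpL v.2).choose) =
      S.wpL (S.exists_wpL u.2).choose * S.wpL (S.exists_wpL v.2).choose by simp [Struct.wpL], ← hu, ← hv]

theorem matW_eq (S : Struct D C) (hU : Uni D a) (w : ↥S.WG) {L : List (Fin D.rank)}
    (h : S.wpL L = (w : Equiv.Perm (Fin D.nroots))) : matW S hU w = matL D L :=
  matL_congr S hU ((S.exists_wpL w.2).choose_spec.symm.trans h.symm)

theorem chiZ_matW (S : Struct D C) (hU : Uni D a) (w : ↥S.WG) (s : Fin D.nroots) (y : Fin D.rank → ℤ) :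
    chiZ D ((w : Equiv.Perm (Fin D.nroots)) s) (matW S hU w *ᵥ y) = chiZ D s y := by
  obtain ⟨L, hL⟩ := S.exists_wpL w.2
  rw [matW_eq S hU w hL.symm, hL, chiZ_wpL]

theorem chiZ_matW_inv (S : Struct D C) (hU : Uni D a) (w : ↥S.WG) (s : Fin D.nroots) (y : Fin D.rank → ℤ) :
    chiZ D s (matW S hU w *ᵥ y) = chiZ D ((w : Equiv.Perm (Fin D.nroots))⁻¹ s) y := by
  conv_lhs => rw [show s = (w : Equiv.Perm (Fin D.nroots)) ((w : Equiv.Perm (Fin D.nroots))⁻¹ s) by simp]
  rw [chiZ_matW]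

theorem exists_root_rep (S : Struct D C) (s : Fin D.nroots) : ∃ u ∈ S.WG, ∃ j, u (S.sp j) = s := by
  suffices H : ∀ r < D.nroots, ∀ hr : r < D.nroots, ∃ u ∈ S.WG, ∃ j, u (S.sp j) = ⟨r, hr⟩ from
    H s.val s.isLt s.isLt
  refine S.ok.root_induction (fun i hi => ⟨fun hr => ⟨1, one_mem _, ⟨i, hi⟩, rfl⟩, fun hr =>
    ⟨S.wp ⟨i, hi⟩, Subgroup.subset_closure ⟨_, rfl⟩, ⟨i, hi⟩, Fin.ext ?_⟩⟩) fun i r hi hr ih hr' => ?_
  · exact (S.ok.refl_simple hi).1
  · obtain ⟨u, hu, j, e⟩ := ih (S.ok.w_lt hi hr)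
    refine ⟨S.wp ⟨i, hi⟩ * u, mul_mem (Subgroup.subset_closure ⟨_, rfl⟩) hu, j, ?_⟩
    rw [Equiv.Perm.mul_apply, e]
    exact Fin.ext (S.ok.w_w hi hr)

theorem chiZ_neg (S : Struct D C) {s : ℕ} (hs : s < D.nroots) (y : Fin D.rank → ℤ) :
    chiZ D (D.neg s) y = -chiZ D s y := by
  unfold chiZ
  rw [← Finset.sum_neg_distrib]
  refine Finset.sum_congr rfl fun i _ => ?_
  rw [← S.ok.neg_eq hs, ← S.ok.cart_eq i.isLt (S.ok.neg_lt hs), ← S.ok.cart_eq i.isLt hs,
    (S.ok.refl_spec i.isLt hs).2.2.2.2.1]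
  ring

theorem eq_one_of_fix_regular (S : Struct D C) (hU : Uni D a) {u : ↥S.WG} {z : Fin D.rank → ℤ}
    (hreg : ∀ s : Fin D.nroots, chiZ D s z ≠ 0) (hfix : matW S hU u *ᵥ z = z) : u = 1 := by
  classical
  let f : ↥S.WG → ℤ := fun v =>
    ∑ s ∈ Finset.univ.filter (fun s : Fin D.nroots => D.nroots / 2 ≤ s.val),
      chiZ D ((v : Equiv.Perm (Fin D.nroots)) s) z
  obtain ⟨v, hv⟩ := Finite.exists_max f
  have hsimp : ∀ i : Fin D.rank, 0 < chiZ D ((v : Equiv.Perm (Fin D.nroots)) (S.sp i)) z := by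
    intro i
    by_contra hle
    have hlt := lt_of_le_of_ne (not_lt.1 hle) (hreg _)
    let v' : ↥S.WG := v * ⟨S.wp i, Subgroup.subset_closure ⟨i, rfl⟩⟩
    have hval : ∀ s, ((v' : ↥S.WG) : Equiv.Perm (Fin D.nroots)) s =
        (v : Equiv.Perm (Fin D.nroots)) (S.wp i s) := fun s => rfl
    have hn : D.neg (C.sr i) < D.nroots := by rw [← S.ok.neg_eq (S.ok.sr_lt i.isLt)]; exact S.ok.neg_lt (S.ok.sr_lt i.isLt)
    have hspi : S.wp i (S.sp i) = ⟨D.neg (C.sr i), hn⟩ := Fin.ext (by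
      rw [S.wp_val, show (S.sp i).val = C.sr i.val from rfl, (S.ok.refl_simple i.isLt).1,
        S.ok.neg_eq (S.ok.sr_lt i.isLt)])
    have hvneg : chiZ D ((v : Equiv.Perm (Fin D.nroots)) ⟨D.neg (C.sr i), hn⟩) z =
        -chiZ D ((v : Equiv.Perm (Fin D.nroots)) (S.sp i)) z := by
      obtain ⟨L, hL⟩ := S.exists_wpL v.2
      rw [hL, show (S.wpL L ⟨D.neg (C.sr i), hn⟩).val = D.neg (S.wpL L (S.sp i)).val from S.wp_neg L (S.sp i) hn,
        chiZ_neg S (Fin.isLt _)]
    have hmem : S.sp i ∈ Finset.univ.filter (fun s : Fin D.nroots => D.nroots / 2 ≤ s.val) := by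
      simp [Struct.sp, S.sr_pos i.isLt]
    have hperm : ∀ s ∈ (Finset.univ.filter (fun s : Fin D.nroots => D.nroots / 2 ≤ s.val)).erase (S.sp i),
        S.wp i s ∈ (Finset.univ.filter (fun s : Fin D.nroots => D.nroots / 2 ≤ s.val)).erase (S.sp i) := by
      intro s hs
      simp only [Finset.mem_erase, Finset.mem_filter, Finset.mem_univ, true_and] at hs ⊢
      refine ⟨fun e => ?_, S.pos_w i.isLt hs.2 s.isLt fun e => hs.1 (Fin.ext e)⟩
      have h1 : S.wp i (S.wp i s) = S.wp i (S.sp i) := congrArg _ e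
      rw [← Equiv.Perm.mul_apply, S.wp_mul_self, Equiv.Perm.one_apply, hspi] at h1
      have h2 : (s : ℕ) = D.neg (C.sr i) := congrArg Fin.val h1
      have h3 := S.neg_lt_half (S.ok.sr_lt i.isLt) (S.sr_pos i.isLt)
      omega
    have hrest : ∑ s ∈ (Finset.univ.filter (fun s : Fin D.nroots => D.nroots / 2 ≤ s.val)).erase (S.sp i),
        chiZ D ((v' : Equiv.Perm (Fin D.nroots)) s) z =
        ∑ s ∈ (Finset.univ.filter (fun s : Fin D.nroots => D.nroots / 2 ≤ s.val)).erase (S.sp i),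
          chiZ D ((v : Equiv.Perm (Fin D.nroots)) s) z := by
      refine Finset.sum_nbij' (S.wp i) (S.wp i) hperm hperm (fun s _ => ?_) (fun s _ => ?_) fun s _ => by rw [hval]
      · rw [← Equiv.Perm.mul_apply, S.wp_mul_self, Equiv.Perm.one_apply]
      · rw [← Equiv.Perm.mul_apply, S.wp_mul_self, Equiv.Perm.one_apply]
    have h1 := hv v'
    simp only [f] at h1
    rw [← Finset.add_sum_erase _ _ hmem, ← Finset.add_sum_erase _ _ hmem, hrest, hval, hspi, hvneg] at h1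
    omega
  have hpos : ∀ s : Fin D.nroots, D.nroots / 2 ≤ s.val → 0 < chiZ D ((v : Equiv.Perm (Fin D.nroots)) s) z := by
    intro s hs
    refine lt_of_le_of_ne ?_ (hreg _).symm
    have e := chiZ_matW_inv S hU v⁻¹ s z
    rw [InvMemClass.coe_inv, inv_inv] at e
    rw [← e]
    obtain ⟨dd, hdd, hce⟩ := hU.chiZ_eq
    refine (mul_nonneg_iff_of_pos_left hdd).1 ?_
    rw [hce]
    refine Finset.sum_nonneg fun j _ => mul_nonneg (hU.pos s.val s.isLt hs j) ?_
    have h2 := chiZ_matW_inv S hU v⁻¹ (S.sp j) z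
    rw [show (S.sp j).val = D.simple j from S.ok.sr_eq j.isLt] at h2
    rw [h2]
    simpa using (hsimp j).le
  let u' : ↥S.WG := v⁻¹ * u * v
  have hu' : ∀ s : Fin D.nroots, chiZ D ((v : Equiv.Perm (Fin D.nroots)) ((u' : Equiv.Perm (Fin D.nroots)) s)) z =
      chiZ D ((v : Equiv.Perm (Fin D.nroots)) s) z := by
    intro s
    have e : (v : Equiv.Perm (Fin D.nroots)) ((u' : Equiv.Perm (Fin D.nroots)) s) =
        (u : Equiv.Perm (Fin D.nroots)) ((v : Equiv.Perm (Fin D.nroots)) s) := by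
      simp [u', Equiv.Perm.mul_apply]
    rw [e]
    have h1 := chiZ_matW S hU u ((v : Equiv.Perm (Fin D.nroots)) s) z
    rwa [hfix] at h1
  obtain ⟨L, hL⟩ := S.exists_wpL u'.2
  have h1 : S.wpL L = 1 := by
    refine S.eq_one_of_simple_pos D.rank L.length L rfl (fun x _ => x.isLt) fun j _ => ?_
    rw [← hL]
    by_contra hneg
    set t := (u' : Equiv.Perm (Fin D.nroots)) (S.sp j) with ht
    have hnt : D.neg t.val < D.nroots := by rw [← S.ok.neg_eq t.isLt]; exact S.ok.neg_lt t.isLt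
    have hntpos : D.nroots / 2 ≤ D.neg t.val := by
      rw [← S.ok.neg_eq t.isLt, (S.ok.pos_or_neg t.isLt).2.2]
      omega
    have h2 := hpos ⟨D.neg t.val, hnt⟩ hntpos
    obtain ⟨Lv, hLv⟩ := S.exists_wpL v.2
    rw [hLv, S.wp_neg Lv t hnt, chiZ_neg S (Fin.isLt _), ← hLv, ht, hu'] at h2
    have := hsimp j
    omega
  have h2 : u' = 1 := Subtype.ext (hL.trans h1)
  have : u = v * u' * v⁻¹ := by simp only [u']; group
  rw [this, h2, mul_one, mul_inv_cancel]

section Modular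

variable (S : Struct D C) (hU : Uni D a) {r : ℕ} [Fact r.Prime] (hW : ¬ r ∣ Nat.card ↥S.WG)
include hW

theorem sum_stab_ne_zero {G : Subgroup ↥S.WG} {y : Fin D.rank → ℤ} (hy : ∃ i, (y i : ZMod r) ≠ 0)
    (hG : ∀ u ∈ G, ∀ i, ((matW S hU u *ᵥ y) i : ZMod r) = y i) :
    ∃ z : Fin D.rank → ℤ, z ≠ 0 ∧ (∀ u ∈ G, matW S hU u *ᵥ z = z) ∧
      ∀ i, (z i : ZMod r) = (Nat.card ↥G : ZMod r) * (y i : ZMod r) := by
  classical
  refine ⟨∑ u : ↥G, matW S hU u *ᵥ y, fun h => ?_, fun v hv => ?_, fun i => ?_⟩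
  · obtain ⟨i, hi⟩ := hy
    have h1 := congrArg (fun t : Fin D.rank → ℤ => ((t i : ℤ) : ZMod r)) h
    simp only [Finset.sum_apply, Int.cast_sum, hG _ (Subtype.coe_prop _), Finset.sum_const, Finset.card_univ,
      nsmul_eq_mul, Pi.zero_apply, Int.cast_zero, mul_eq_zero] at h1
    refine hW ?_
    rw [ZMod.natCast_eq_zero_iff] at h1
    exact ((Nat.card_eq_fintype_card (α := ↥G)) ▸ h1.resolve_right hi).trans G.card_subgroup_dvd_card
  · rw [Matrix.mulVec_sum]
    refine Fintype.sum_equiv (Equiv.mulLeft (⟨v, hv⟩ : ↥G)) _ _ fun u => ?_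
    rw [Matrix.mulVec_mulVec, ← map_mul]
    rfl
  · simp only [Finset.sum_apply, Int.cast_sum, hG _ (Subtype.coe_prop _), Finset.sum_const, Finset.card_univ,
      nsmul_eq_mul, Nat.card_eq_fintype_card]

include hU in
theorem exists_killed (y : Fin D.rank → ℤ) (hy : ∃ i, (y i : ZMod r) ≠ 0) :
    ∃ z : Fin D.rank → ℤ, ∃ c : ZMod r, c ≠ 0 ∧ z ≠ 0 ∧ (∀ i, (z i : ZMod r) = c * (y i : ZMod r)) ∧
      ∀ s : Fin D.nroots, (chiZ D s y : ZMod r) = 0 → chiZ D s z = 0 := by
  classical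
  let G : Subgroup ↥S.WG :=
    { carrier := {u | ∀ i, ((matW S hU u *ᵥ y) i : ZMod r) = y i}
      one_mem' := fun i => by simp
      mul_mem' := fun {u v} hu hv i => by
        have e : red r (matW S hU v) *ᵥ (fun i => (y i : ZMod r)) = fun i => (y i : ZMod r) :=
          (red_mulVec r _ y).trans (funext hv)
        have e' : red r (matW S hU u) *ᵥ (fun i => (y i : ZMod r)) = fun i => (y i : ZMod r) :=
          (red_mulVec r _ y).trans (funext hu)
        have e2 := congrFun (red_mulVec r (matW S hU u) (matW S hU v *ᵥ y)) i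
        rw [map_mul, ← Matrix.mulVec_mulVec, ← e2, funext hv, congrFun e' i]
      inv_mem' := fun {u} hu i => by
        have h1 := congrFun (red_mulVec r (matW S hU u⁻¹) (matW S hU u *ᵥ y)) i
        rw [funext hu, congrFun (red_mulVec r (matW S hU u⁻¹) y) i, Matrix.mulVec_mulVec, ← map_mul,
          inv_mul_cancel, map_one, Matrix.one_mulVec] at h1
        exact h1 }
  obtain ⟨z, hz0, hzfix, hzc⟩ := sum_stab_ne_zero S hU hW (G := G) hy fun u hu => hu
  refine ⟨z, _, fun h => hW ?_, hz0, hzc, ?_⟩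
  · exact ((ZMod.natCast_eq_zero_iff _ _).1 h).trans G.card_subgroup_dvd_card
  intro s hs
  obtain ⟨u, hu, j, rfl⟩ := exists_root_rep S s
  let ρ : ↥S.WG := ⟨u, hu⟩ * ⟨S.wp j, Subgroup.subset_closure ⟨j, rfl⟩⟩ * ⟨u, hu⟩⁻¹
  have hR : matW S hU ⟨S.wp j, Subgroup.subset_closure ⟨j, rfl⟩⟩ = Rm D j := by
    rw [matW_eq S hU _ (L := [j]) (by simp [Struct.wpL])]; simp [matL]
  have hρ : ∀ t : Fin D.rank → ℤ, matW S hU ρ *ᵥ t =
      t - chiZ D ((u : Equiv.Perm (Fin D.nroots)) (S.sp j)) t • (matW S hU ⟨u, hu⟩ *ᵥ Pi.single j 1) := by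
    intro t
    set t' := matW S hU ⟨u, hu⟩⁻¹ *ᵥ t with ht'
    have ht : matW S hU ⟨u, hu⟩ *ᵥ t' = t := by
      rw [ht', Matrix.mulVec_mulVec, ← map_mul, mul_inv_cancel, map_one, Matrix.one_mulVec]
    rw [map_mul, map_mul, ← Matrix.mulVec_mulVec, ← Matrix.mulVec_mulVec, ← ht', hR, Rm_mulVec,
      Matrix.mulVec_sub, ht]
    congr 1
    rw [← Matrix.mulVec_smul]
    congr 1
    rw [← Pi.single_smul', smul_eq_mul, mul_one]
    congr 1
    have h1 := chiZ_matW S hU ⟨u, hu⟩ (S.sp j) t'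
    rw [ht] at h1
    rw [show D.simple j = (S.sp j).val from (S.ok.sr_eq j.isLt).symm]
    exact h1.symm
  have hρG : ρ ∈ G := fun i => by
    rw [hρ]
    simp [hs]
  have h1 := hzfix ρ hρG
  rw [hρ, sub_eq_self, smul_eq_zero] at h1
  refine h1.resolve_right fun h2 => ?_
  have h3 := congrArg (fun t => matW S hU ⟨u, hu⟩⁻¹ *ᵥ t) h2
  simp only [Matrix.mulVec_zero, Matrix.mulVec_mulVec, ← map_mul, inv_mul_cancel, map_one,
    Matrix.one_mulVec] at h3
  exact one_ne_zero (Pi.single_eq_zero_iff.1 h3)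

theorem chi_eigen_stable {q : ℤ} (w : ↥S.WG) {y : Fin D.rank → ℤ}
    (heig : ∀ i, ((matW S hU w *ᵥ y) i : ZMod r) = (q : ZMod r) * (y i : ZMod r)) :
    ∀ (k : ℕ) (s : Fin D.nroots),
      (chiZ D (((w : Equiv.Perm (Fin D.nroots))⁻¹ ^ k) s) y : ZMod r) = (q : ZMod r) ^ k * (chiZ D s y : ZMod r) := by
  intro k
  induction k with
  | zero => intro s; simp
  | succ k ih =>
    intro s
    rw [pow_succ', Equiv.Perm.mul_apply]
    set t := ((w : Equiv.Perm (Fin D.nroots))⁻¹ ^ k) s with ht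
    rw [← chiZ_matW_inv S hU w t y]
    have h1 : (chiZ D t (matW S hU w *ᵥ y) : ZMod r) = (q : ZMod r) * (chiZ D t y : ZMod r) := by
      simp only [chiZ, Int.cast_sum, Int.cast_mul, heig, Finset.mul_sum]
      exact Finset.sum_congr rfl fun i _ => by ring
    rw [h1, ih s, pow_succ', mul_assoc]

theorem regular_of_eigen {d : ℕ} (hd : d.totient = D.rank) (hd0 : 0 < d) {q : ℤ}
    (hq : IsPrimitiveRoot (q : ZMod r) d) (w : ↥S.WG) {y : Fin D.rank → ℤ} (hy : ∃ i, (y i : ZMod r) ≠ 0)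
    (heig : ∀ i, ((matW S hU w *ᵥ y) i : ZMod r) = (q : ZMod r) * (y i : ZMod r)) :
    ((matW S hU w).charpoly = Polynomial.cyclotomic d ℤ) ∧ ∀ s : Fin D.nroots, (chiZ D s y : ZMod r) ≠ 0 := by
  classical
  have hm : matW S hU w ^ orderOf w = 1 := by rw [← map_pow, pow_orderOf_eq_one, map_one]
  have hchar := charpoly_eq_cyclotomic (matW S hU w) hm (orderOf_pos w)
    (fun h => hW (h.trans (orderOf_dvd_natCard w))) hq hd hy heig
  refine ⟨hchar, fun s0 hs0 => ?_⟩
  obtain ⟨z, -, -, hz0, -, hkill⟩ := exists_killed S hU hW y hy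
  have horb : ∀ k : ℕ, chiZ D s0 (matW S hU w ^ k *ᵥ z) = 0 := by
    intro k
    rw [← map_pow, chiZ_matW_inv S hU]
    refine hkill _ ?_
    rw [SubgroupClass.coe_pow, ← inv_pow]
    rw [chi_eigen_stable S hU hW w heig k s0, hs0, mul_zero]
  have hc := functional_eq_zero (matW S hU w) hd0 hchar hz0
    (c := fun j => D.cartan j s0) fun k => by simpa [chiZ, dotProduct] using horb k
  obtain ⟨u, hu, j, hju⟩ := exists_root_rep S s0
  have h2 := chiZ_matW S hU ⟨u, hu⟩ (S.sp j) (Pi.single j 1)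
  rw [show ((⟨u, hu⟩ : ↥S.WG) : Equiv.Perm (Fin D.nroots)) (S.sp j) = s0 from hju, chiZ_single, mul_one] at h2
  have h3 : chiZ D s0 (matW S hU ⟨u, hu⟩ *ᵥ Pi.single j 1) = 0 := by
    simp [chiZ, fun i => congrFun hc i]
  rw [h3, ← S.ok.cart_eq j.isLt (Fin.isLt _), show (S.sp j).val = C.sr j.val from rfl,
    (S.ok.refl_simple j.isLt).2.2.2] at h2
  omega

theorem eq_one_of_fix_mod {y : Fin D.rank → ℤ} (hreg : ∀ s : Fin D.nroots, (chiZ D s y : ZMod r) ≠ 0)
    (u : ↥S.WG) (hfix : ∀ i, ((matW S hU u *ᵥ y) i : ZMod r) = y i) : u = 1 := by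
  classical
  rcases Nat.eq_zero_or_pos D.nroots with h0 | h0
  · haveI : Subsingleton (Equiv.Perm (Fin D.nroots)) := by rw [h0]; infer_instance
    exact Subtype.ext (Subsingleton.elim _ _)
  have hy : ∃ i, (y i : ZMod r) ≠ 0 := by
    by_contra hno
    push Not at hno
    exact hreg ⟨0, h0⟩ (by simp [chiZ, hno])
  have hG : ∀ v ∈ Subgroup.zpowers u, ∀ i, ((matW S hU v *ᵥ y) i : ZMod r) = y i := by
    intro v hv
    obtain ⟨k, rfl⟩ := mem_powers_iff_mem_zpowers.2 hv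
    induction k with
    | zero => intro i; simp
    | succ k ih =>
      intro i
      have e2 := congrFun (red_mulVec r (matW S hU (u ^ k)) (matW S hU u *ᵥ y)) i
      show ((matW S hU (u ^ (k + 1)) *ᵥ y) i : ZMod r) = y i
      rw [pow_succ, map_mul, ← Matrix.mulVec_mulVec, ← e2, funext hfix, congrFun (red_mulVec r _ y) i]
      exact ih (pow_mem (Subgroup.mem_zpowers u) k) i
  obtain ⟨z, -, hzfix, hz⟩ := sum_stab_ne_zero S hU hW (G := Subgroup.zpowers u) hy hG
  refine eq_one_of_fix_regular S hU (z := z) (fun s hs => ?_) (hzfix u (Subgroup.mem_zpowers u))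
  have h1 : (chiZ D s z : ZMod r) = (Nat.card ↥(Subgroup.zpowers u) : ZMod r) * (chiZ D s y : ZMod r) := by
    simp only [chiZ, Int.cast_sum, Int.cast_mul, hz, Finset.mul_sum]
    exact Finset.sum_congr rfl fun i _ => by ring
  rw [hs, Int.cast_zero, eq_comm, mul_eq_zero] at h1
  rcases h1 with h1 | h1
  · exact hW (((ZMod.natCast_eq_zero_iff _ _).1 h1).trans (Subgroup.card_subgroup_dvd_card _))
  · exact hreg s h1

end Modular

end Cfsg.Lib.CyclicTorus
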